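import Groth.Agent.Lib.EGA75.CM
import Groth.Agent.Lib.Excellent.Transport
import Groth.Agent.Lib.GRing.Poly

/-!
# Serre's conditions `(Sₙ)` on fibres
-/

set_option autoImplicit false
set_option linter.style.haveILetI false

universe u

open IsLocalRing
open scoped TensorProduct
open Groth.Agent.Lib.Excellent

namespace Groth.Agent.Lib.EGA75.Sn

/-- The depth condition of `(Sₙ)` for a single local ring. -/
def Local (n : ℕ) (S : Type u) [CommRing S] : Prop :=
  ∃ _ : IsLocalRing S, min (n : WithBot ℕ∞) (ringKrullDim S) ≤ ((LocCoh.depth S S : ℕ∞) : WithBot ℕ∞)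

/-- `(Sₙ)` in terms of the local rings. -/
theorem hasSk_iff (n : ℕ) (R : Type u) [CommRing R] :
    LocCoh.HasSk n R R ↔ ∀ (p : Ideal R) [p.IsPrime], Local n (Localization.AtPrime p) := by
  refine forall_congr' fun q => forall_congr' fun _ => ⟨fun h => ⟨inferInstance, ?_⟩, fun ⟨_, h⟩ => ?_⟩
  · rw [← Module.supportDim_self_eq_ringKrullDim]
    exact h
  · rw [← Module.supportDim_self_eq_ringKrullDim] at h
    exact h

theorem isoInvariant (n : ℕ) : FormalFibre.IsoInvariant.{u} (fun S [CommRing S] => Local n S) :=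
  fun R S _ _ e ⟨_, h⟩ => by
    haveI : IsLocalRing S := e.isLocalRing
    refine ⟨inferInstance, ?_⟩
    rwa [← ringKrullDim_eq_of_ringEquiv e, ← Groth.Agent.Lib.Goren.Flat.depth_ringEquiv e]

/-- `(Sₙ)` lifts along flat local maps from the base and the closed fibre. -/
theorem compProp (n : ℕ) : Comp.CompProp.{u} (fun S [CommRing S] => Local n S) where
  iso := isoInvariant n
  comp R _ _ _ S _ _ _ _ _ _ hR hF := by
    obtain ⟨_, hR⟩ := hR
    obtain ⟨_, hF⟩ := hF
    refine ⟨inferInstance, ?_⟩
    rw [DepthFlat.depth_eq_add R S, DepthFlat.ringKrullDim_eq_add R S]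
    generalize LocCoh.depth R R = a at *
    generalize LocCoh.depth (S ⧸ (maximalIdeal R).map (algebraMap R S))
      (S ⧸ (maximalIdeal R).map (algebraMap R S)) = c at *
    have h1 : ringKrullDim R ≠ ⊥ := ringKrullDim_ne_bot
    have h2 : ringKrullDim (S ⧸ (maximalIdeal R).map (algebraMap R S)) ≠ ⊥ := ringKrullDim_ne_bot
    obtain ⟨d, hd⟩ := WithBot.ne_bot_iff_exists.1 h1
    obtain ⟨e, he⟩ := WithBot.ne_bot_iff_exists.1 h2
    rw [← hd] at hR ⊢
    rw [← he] at hF ⊢
    norm_cast at hR hF ⊢
    rcases min_le_iff.1 hR with hn | hn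
    · exact (min_le_left _ _).trans (hn.trans le_self_add)
    rcases min_le_iff.1 hF with hm | hm
    · exact (min_le_left _ _).trans (hm.trans le_add_self)
    exact (min_le_right _ _).trans (add_le_add hn hm)

theorem of_dim_zero (n : ℕ) (R : Type u) [CommRing R] [IsLocalRing R]
    (h : ringKrullDim R ≤ 0) : Local n R :=
  ⟨inferInstance, (min_le_right _ _).trans (h.trans (WithBot.coe_le_coe.2 (zero_le)))⟩

theorem isoInvariant_ring (n : ℕ) : FormalFibre.IsoInvariant.{u}
    (fun S [CommRing S] => LocCoh.HasSk n S S) := fun R S _ _ e h => by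
  change LocCoh.HasSk n R R at h
  change LocCoh.HasSk n S S
  rw [hasSk_iff] at h ⊢
  exact fun p _ => Transport.forall_atPrime_congr (isoInvariant n) e (fun q _ => h q) p

/-- Fibres of finite maps are zero-dimensional. -/
theorem dim_fibre_of_finite (F T : Type u) [CommRing F] [CommRing T] [Algebra F T] [Module.Finite F T]
    (Q : Ideal T) [Q.IsPrime] (Qb : Ideal (T ⧸ (Q.comap (algebraMap F T)).map (algebraMap F T)))
    [Qb.IsPrime] (hQb : Qb.comap (Ideal.Quotient.mk _) = Q) :
    ringKrullDim (Localization.AtPrime Qb) ≤ 0 := by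
  rw [IsLocalization.AtPrime.ringKrullDim_eq_height Qb (Localization.AtPrime Qb)]
  refine le_of_eq (WithBot.coe_eq_zero.2 (Ideal.height_eq_zero_iff.2 ⟨⟨inferInstance, bot_le⟩, ?_⟩))
  intro P hP hle
  haveI := hP.1
  rcases eq_or_lt_of_le hle with he | hlt
  · exact he.ge
  have hcomap : Qb.comap (algebraMap F _) = Q.comap (algebraMap F T) := by
    rw [IsScalarTower.algebraMap_eq F T (T ⧸ (Q.comap (algebraMap F T)).map (algebraMap F T)), ← Ideal.comap_comap,
      Ideal.Quotient.algebraMap_eq, hQb]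
  have hlt' := Ideal.IsIntegral.comap_lt_comap (R := F) hlt
  exfalso
  refine hlt'.not_ge ?_
  change Qb.comap (algebraMap F _) ≤ P.comap (algebraMap F _)
  rw [hcomap]
  intro a ha
  rw [Ideal.mem_comap, IsScalarTower.algebraMap_apply F T (T ⧸ (Q.comap (algebraMap F T)).map (algebraMap F T)),
    Ideal.Quotient.algebraMap_eq, Ideal.Quotient.eq_zero_iff_mem.2 (Ideal.mem_map_of_mem _ ha)]
  exact zero_mem _

/-- Finite flat algebras inherit `(Sₙ)`. -/
theorem of_finite_flat (n : ℕ) (F T : Type u) [CommRing F] [IsNoetherianRing F] [CommRing T]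
    [Algebra F T] [Module.Finite F T] [Module.Flat F T] (h : LocCoh.HasSk n F F) :
    LocCoh.HasSk n T T := by
  rw [hasSk_iff] at h ⊢
  haveI : IsNoetherianRing T := IsNoetherianRing.of_finite F T
  intro Q _
  refine Comp.atPrime (compProp n) F T Q _ rfl (h _) fun Qb _ hQb => ?_
  exact of_dim_zero n _ (dim_fibre_of_finite F T Q Qb hQb)

/-- A quotient by an ideal over which the maximal ideal is minimal is zero-dimensional. -/
theorem dim_quotient_of_mem_minimalPrimes (L : Type u) [CommRing L] [IsLocalRing L] (J : Ideal L)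
    (hmin : maximalIdeal L ∈ J.minimalPrimes) : ringKrullDim (L ⧸ J) ≤ 0 := by
  refine (Ring.krullDimLE_iff (n := 0)).1 (Ring.KrullDimLE.mk₀ fun P hP => ?_)
  have hJP : J ≤ P.comap (Ideal.Quotient.mk J) := fun x hx => by
    rw [Ideal.mem_comap, Ideal.Quotient.eq_zero_iff_mem.2 hx]
    exact zero_mem P
  have hle := IsLocalRing.le_maximalIdeal (hP.comap (Ideal.Quotient.mk J)).ne_top
  have hc : P.comap (Ideal.Quotient.mk J) = maximalIdeal L :=
    le_antisymm hle (hmin.2 ⟨hP.comap _, hJP⟩ hle)
  rw [← Ideal.map_comap_of_surjective _ Ideal.Quotient.mk_surjective P, hc]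
  exact Ideal.IsMaximal.map_of_surjective_of_ker_le Ideal.Quotient.mk_surjective
    (by rw [Ideal.mk_ker]; exact hmin.1.2)

/-- `(Sₙ)` descends along a flat local map with zero-dimensional closed fibre. -/
theorem local_descent (n : ℕ) (R S : Type u) [CommRing R] [IsLocalRing R] [IsNoetherianRing R]
    [CommRing S] [IsLocalRing S] [IsNoetherianRing S] [Algebra R S] [IsLocalHom (algebraMap R S)]
    [Module.Flat R S] (h0 : ringKrullDim (S ⧸ (maximalIdeal R).map (algebraMap R S)) ≤ 0)
    (h : Local n S) : Local n R := by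
  haveI : Nontrivial (S ⧸ (maximalIdeal R).map (algebraMap R S)) :=
    Ideal.Quotient.nontrivial_iff.mpr (IsLocalRing.map_maximalIdeal_lt_top _).ne
  haveI : IsLocalRing (S ⧸ (maximalIdeal R).map (algebraMap R S)) :=
    IsLocalRing.of_surjective' _ Ideal.Quotient.mk_surjective
  obtain ⟨_, h⟩ := h
  have hdim0 := le_antisymm h0 ringKrullDim_nonneg_of_nontrivial
  have hdep := Groth.Agent.Lib.Depth.Assoc.depth_le_ringKrullDim
    (R := S ⧸ (maximalIdeal R).map (algebraMap R S)) (S ⧸ (maximalIdeal R).map (algebraMap R S))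
  rw [hdim0] at hdep
  have hdep0 : LocCoh.depth (S ⧸ (maximalIdeal R).map (algebraMap R S))
      (S ⧸ (maximalIdeal R).map (algebraMap R S)) = 0 :=
    le_antisymm (WithBot.coe_le_coe.1 hdep) (zero_le)
  refine ⟨inferInstance, ?_⟩
  rwa [DepthFlat.depth_eq_add R S, DepthFlat.ringKrullDim_eq_add R S, hdim0, hdep0, add_zero,
    add_zero] at h

/-- `(Sₙ)` descends along a flat map from the generizations of a prime. -/
theorem local_descent_below (n : ℕ) (R S : Type u) [CommRing R] [CommRing S] [IsNoetherianRing R]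
    [IsNoetherianRing S] [Algebra R S] [Module.Flat R S] (Q0 : Ideal S) [Q0.IsPrime] (p : Ideal R)
    [p.IsPrime] (hp0 : Q0.comap (algebraMap R S) = p)
    (h : ∀ (q : Ideal S) [q.IsPrime], q ≤ Q0 → Local n (Localization.AtPrime q)) :
    Local n (Localization.AtPrime p) := by
  obtain ⟨q, hqmin, hqle⟩ := Ideal.exists_minimalPrimes_le (I := p.map (algebraMap R S))
    (Ideal.map_le_iff_le_comap.2 hp0.ge)
  haveI := hqmin.1.1
  have hqp : q.comap (algebraMap R S) = p :=
    le_antisymm (hp0 ▸ Ideal.comap_mono hqle) (Ideal.map_le_iff_le_comap.1 hqmin.1.2)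
  subst hqp
  let p := q.comap (algebraMap R S)
  letI : Algebra (Localization.AtPrime p) (Localization.AtPrime q) :=
    (Localization.localRingHom p q (algebraMap R S) rfl).toAlgebra
  haveI : IsScalarTower R (Localization.AtPrime p) (Localization.AtPrime q) :=
    .of_algebraMap_eq fun x => by
      rw [RingHom.algebraMap_toAlgebra, Localization.localRingHom_to_map,
        IsScalarTower.algebraMap_apply R S (Localization.AtPrime q)]
  haveI : IsLocalHom (algebraMap (Localization.AtPrime p) (Localization.AtPrime q)) :=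
    Localization.isLocalHom_localRingHom _ _ _ rfl
  haveI : Module.Flat R (Localization.AtPrime q) := Module.Flat.trans R S _
  haveI : Module.Flat (Localization.AtPrime p) (Localization.AtPrime q) :=
    (Module.flat_iff_of_isLocalization (Localization.AtPrime p) p.primeCompl _).2 ‹_›
  haveI : IsNoetherianRing (Localization.AtPrime p) :=
    IsLocalization.isNoetherianRing p.primeCompl _ inferInstance
  haveI : IsNoetherianRing (Localization.AtPrime q) :=
    IsLocalization.isNoetherianRing q.primeCompl _ inferInstance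
  refine local_descent n (Localization.AtPrime p) (Localization.AtPrime q) ?_ (h q hqle)
  have hmin : maximalIdeal (Localization.AtPrime q) ∈
      ((maximalIdeal (Localization.AtPrime p)).map
        (algebraMap (Localization.AtPrime p) (Localization.AtPrime q))).minimalPrimes := by
    rw [← Localization.AtPrime.map_eq_maximalIdeal (I := p), Ideal.map_map,
      ← IsScalarTower.algebraMap_eq, IsScalarTower.algebraMap_eq R S (Localization.AtPrime q),
      ← Ideal.map_map, IsLocalization.minimalPrimes_map q.primeCompl]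
    simpa [IsLocalization.AtPrime.comap_maximalIdeal _ q] using hqmin
  exact dim_quotient_of_mem_minimalPrimes _ _ hmin

/-- `(Sₙ)` descends along faithfully flat maps. -/
theorem descent (n : ℕ) (R S : Type u) [CommRing R] [CommRing S] [IsNoetherianRing R]
    [IsNoetherianRing S] [Algebra R S] [Module.FaithfullyFlat R S] (h : LocCoh.HasSk n S S) :
    LocCoh.HasSk n R R := by
  rw [hasSk_iff] at h ⊢
  intro p _
  obtain ⟨Q0, hQ0⟩ := PrimeSpectrum.comap_surjective_of_faithfullyFlat (A := R) (B := S) ⟨p, ‹_›⟩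
  exact local_descent_below n R S Q0.asIdeal p (congrArg PrimeSpectrum.asIdeal hQ0) fun q _ _ => h q

/-- `(Sₙ)` fibres are `(Sₙ)` at all finite points. -/
theorem finPoint_of_fibres (n : ℕ) (A B : Type u) [CommRing A] [CommRing B] [IsNoetherianRing B]
    [Algebra A B] (h : ∀ (p : Ideal A) [p.IsPrime], LocCoh.HasSk n (p.Fiber B) (p.Fiber B))
    (K : Type u) [Field K] [Algebra A K] (hK : FormalFibre.IsFinPoint A K) :
    LocCoh.HasSk n (K ⊗[A] B) (K ⊗[A] B) := by
  refine (FormalFibre.forall_fibre_iff (isoInvariant_ring n) B).1 (fun p _ k' _ _ _ => ?_) K hK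
  refine isoInvariant_ring n (p.Fiber B ⊗[p.ResidueField] k') _
    (Algebra.TensorProduct.comm p.ResidueField (p.Fiber B) k').toRingEquiv ?_
  haveI : IsNoetherianRing (p.Fiber B) := GRing.Poly.fiber_noetherian A B p
  exact of_finite_flat n (p.Fiber B) (p.Fiber B ⊗[p.ResidueField] k') (h p)

/-- A flat algebra over an `(Sₙ)` ring with `(Sₙ)` fibres is `(Sₙ)`. -/
theorem of_fibres (n : ℕ) (A B : Type u) [CommRing A] [IsNoetherianRing A] [CommRing B] [IsNoetherianRing B]
    [Algebra A B] [Module.Flat A B] (hA : LocCoh.HasSk n A A)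
    (h : ∀ (p : Ideal A) [p.IsPrime], LocCoh.HasSk n (p.Fiber B) (p.Fiber B)) :
    LocCoh.HasSk n B B := by
  rw [hasSk_iff] at hA ⊢
  intro Q _
  exact Comp.atPrime (compProp n) A B Q _ rfl (hA _) fun Qb _ hQb =>
    Comp.fibre_atPrime (isoInvariant n) A B _ Q rfl ((hasSk_iff n _).1 (h _)) Qb hQb

/-- Fibres of a composite. -/
theorem comp_fibre (n : ℕ) (A B C : Type u) [CommRing A] [CommRing B] [CommRing C] [IsNoetherianRing B]
    [IsNoetherianRing C] [Algebra A B] [Algebra B C] [Algebra A C] [IsScalarTower A B C] [Module.Flat B C]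
    (hBC : ∀ (q : Ideal B) [q.IsPrime], LocCoh.HasSk n (q.Fiber C) (q.Fiber C))
    (K : Type u) [Field K] [Algebra A K] (hK : FormalFibre.IsFinPoint A K)
    (h : LocCoh.HasSk n (K ⊗[A] B) (K ⊗[A] B)) : LocCoh.HasSk n (K ⊗[A] C) (K ⊗[A] C) := by
  rw [hasSk_iff] at h ⊢
  exact Comp.finPoint (compProp n) A B C
    (fun L _ _ hL => (hasSk_iff n _).1 (finPoint_of_fibres n B C hBC L hL)) K hK h

end Groth.Agent.Lib.EGA75.Sn
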