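import Groth.Agent.Lib.EGA75.CM
import Groth.Agent.H2.Rigid.FieldBC
import Groth.Agent.S19379
import Mathlib.RingTheory.NoetherNormalization
import Mathlib.RingTheory.EssentialFiniteness
import Mathlib.RingTheory.Localization.FractionRing

/-! Cohen-Macaulayness of tensor products with finitely generated field extensions. -/

set_option autoImplicit false
set_option linter.style.haveILetI false

universe u

open scoped TensorProduct

namespace Groth.Agent.Lib.EGA75.CMTensor

theorem exists_purelyTranscendental (k K : Type u) [Field k] [Field K] [Algebra k K]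
    [Algebra.EssFiniteType k K] :
    ∃ (n : ℕ) (f : FractionRing (MvPolynomial (Fin n) k) →ₐ[k] K),
      letI := f.toRingHom.toAlgebra
      Module.Finite (FractionRing (MvPolynomial (Fin n) k)) K := by
  let S := Algebra.EssFiniteType.subalgebra k K
  obtain ⟨n, g, hg, hfin⟩ := exists_finite_inj_algHom_of_fg k S
  let P := MvPolynomial (Fin n) k
  let F := FractionRing P
  let i : P →ₐ[k] K := S.val.comp g
  have hi : Function.Injective i := Subtype.val_injective.comp hg
  let f : F →ₐ[k] K := IsFractionRing.liftAlgHom hi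
  refine ⟨n, f, ?_⟩
  letI := f.toRingHom.toAlgebra
  have hif : ∀ x, algebraMap F K (algebraMap P F x) = i x := fun x => IsFractionRing.lift_algebraMap hi x
  haveI : IsFractionRing S K := by
    refine (IsLocalization.iff_of_le_of_exists_dvd (Algebra.EssFiniteType.submonoid k K) (nonZeroDivisors S)
      ?_ ?_).1 inferInstance
    · intro x hx
      refine mem_nonZeroDivisors_of_ne_zero fun h0 => ?_
      have h : IsUnit (algebraMap S K x) := hx
      rw [h0, map_zero] at h
      exact not_isUnit_zero h
    · intro x hx
      exact ⟨x, isUnit_iff_ne_zero.2 fun h0 => nonZeroDivisors.ne_zero hx (Subtype.val_injective h0), dvd_rfl⟩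
  letI : Algebra P S := g.toRingHom.toAlgebra
  letI : Algebra P K := i.toRingHom.toAlgebra
  haveI : IsScalarTower P S K := .of_algebraMap_eq fun _ => rfl
  haveI : IsScalarTower P F K := .of_algebraMap_eq fun x => (hif x).symm
  haveI : Module.Finite P S := hfin
  haveI : IsLocalization (Algebra.algebraMapSubmonoid S (nonZeroDivisors P)) K := by
    refine (IsLocalization.iff_of_le_of_exists_dvd (Algebra.algebraMapSubmonoid S (nonZeroDivisors P))
      (nonZeroDivisors S) ?_ ?_).2 inferInstance
    · rintro _ ⟨y, hy, rfl⟩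
      exact mem_nonZeroDivisors_of_ne_zero fun h0 =>
        nonZeroDivisors.ne_zero hy (hg (h0.trans (map_zero g).symm))
    · intro x hx
      obtain ⟨y, hy0, hy⟩ := exists_nonzero_dvd (P := P) x hx
      exact ⟨algebraMap P S y, ⟨y, mem_nonZeroDivisors_of_ne_zero hy0, rfl⟩, hy⟩
  exact Module.Finite.of_isLocalization P S (nonZeroDivisors P)
where
  exists_nonzero_dvd {P S : Type u} [CommRing P] [IsDomain P] [CommRing S] [IsDomain S] [Algebra P S] [Module.Finite P S]
      (x : S) (hx : x ∈ nonZeroDivisors S) : ∃ y : P, y ≠ 0 ∧ x ∣ algebraMap P S y := by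
    haveI : Algebra.IsIntegral P S := Algebra.IsIntegral.of_finite P S
    exact (Algebra.IsIntegral.isIntegral x).isAlgebraic.exists_nonzero_dvd hx

theorem isCohenMacaulayRing_aux (k F K L : Type u) [Field k] [Field F] [Field K] [Field L] [Algebra k F]
    [Algebra k K] [Algebra k L] [Algebra F K] [IsScalarTower k F K] [Module.Finite F K]
    (h : LocCoh.IsCohenMacaulayRing (F ⊗[k] L)) : LocCoh.IsCohenMacaulayRing (K ⊗[k] L) :=
  CM.isoInvariant_ring ((F ⊗[k] L) ⊗[F] K) _
    ((Algebra.TensorProduct.comm F (F ⊗[k] L) K).toRingEquiv.trans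
      (Algebra.TensorProduct.cancelBaseChange k F F K L).toRingEquiv)
    (CM.of_finite_flat (F ⊗[k] L) ((F ⊗[k] L) ⊗[F] K) h)

theorem isCohenMacaulayRing_formallySmooth (k F L : Type u) [Field k] [Field F] [Field L] [Algebra k F]
    [Algebra k L] [Algebra.FormallySmooth k F] [Algebra.EssFiniteType k F] :
    LocCoh.IsCohenMacaulayRing (F ⊗[k] L) := by
  haveI : IsNoetherianRing (L ⊗[k] F) := Algebra.EssFiniteType.isNoetherianRing L _
  haveI : IsNoetherianRing (F ⊗[k] L) :=
    isNoetherianRing_of_ringEquiv (L ⊗[k] F) (Algebra.TensorProduct.comm k L F).toRingEquiv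
  have hg := Groth.Agent.H2.Rigid.FieldBC.isGeometricallyRegular_of_isRegularHom k F
    (Groth.Agent.S19379.result k F)
  haveI := Groth.Agent.H2.Rigid.GeomRegAlg.isRegularRing_tensor hg L
  haveI : IsRegularRing (F ⊗[k] L) :=
    IsRegularRing.of_ringEquiv (Algebra.TensorProduct.comm k L F).toRingEquiv
  refine CM.of_forall _ fun p _ => ?_
  haveI := IsRegularRing.isRegularLocalRing_localization p
  exact Groth.Agent.Lib.JacCrit.FlatRegular.isCohenMacaulayLocalRing _

theorem isCohenMacaulayRing_tensor (k K L : Type u) [Field k] [Field K] [Field L] [Algebra k K]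
    [Algebra k L] [Algebra.EssFiniteType k K] : LocCoh.IsCohenMacaulayRing (K ⊗[k] L) := by
  obtain ⟨n, f, hf⟩ := exists_purelyTranscendental k K
  let P := MvPolynomial (Fin n) k
  let F := FractionRing P
  letI : Algebra F K := f.toRingHom.toAlgebra
  haveI : IsScalarTower k F K := .of_algebraMap_eq fun x => (f.commutes x).symm
  haveI : Module.Finite F K := hf
  haveI : Algebra.FormallyEtale P F := Algebra.FormallyEtale.of_isLocalization (nonZeroDivisors P)
  haveI : Algebra.FormallySmooth k F := Algebra.FormallySmooth.comp k P F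
  haveI : Algebra.EssFiniteType P F := Algebra.EssFiniteType.of_isLocalization F (nonZeroDivisors P)
  haveI : Algebra.EssFiniteType k F := Algebra.EssFiniteType.comp k P F
  exact isCohenMacaulayRing_aux k F K L (isCohenMacaulayRing_formallySmooth k F L)

end Groth.Agent.Lib.EGA75.CMTensor
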