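import Groth.Agent.Lib.EGA75.Sn
import Groth.Agent.Lib.EGA75.CMTensor

/-!
# `(Sₙ)` for tensor products over a field
-/

set_option autoImplicit false
set_option linter.style.haveILetI false

universe u

open scoped TensorProduct

namespace Groth.Agent.Lib.EGA75.SnTensor

theorem hasSk_of_isCohenMacaulayRing (n : ℕ) (R : Type u) [CommRing R] (h : LocCoh.IsCohenMacaulayRing R) :
    LocCoh.HasSk n R R := by
  haveI : IsNoetherianRing R := h.1
  rw [Sn.hasSk_iff]
  intro p _
  haveI : IsNoetherianRing (Localization.AtPrime p) :=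
    IsLocalization.isNoetherianRing p.primeCompl _ inferInstance
  haveI := h.isCohenMacaulayLocalRing_localization p
  exact ⟨inferInstance, (min_le_right _ _).trans
    (Groth.Agent.Lib.Depth.CM.isCohenMacaulayLocalRing_iff.1 inferInstance)⟩

/-- Base change of a finite type algebra to an extension field preserves `(Sₙ)`. -/
theorem hasSk_tensor_field (n : ℕ) (k S L : Type u) [Field k] [CommRing S] [Field L] [Algebra k S]
    [Algebra k L] [Algebra.FiniteType k S] (hS : LocCoh.HasSk n S S) :
    LocCoh.HasSk n (S ⊗[k] L) (S ⊗[k] L) := by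
  haveI : IsNoetherianRing S := Algebra.FiniteType.isNoetherianRing k S
  haveI : IsNoetherianRing (L ⊗[k] S) := Algebra.EssFiniteType.isNoetherianRing L _
  haveI : IsNoetherianRing (S ⊗[k] L) :=
    isNoetherianRing_of_ringEquiv (L ⊗[k] S) (Algebra.TensorProduct.comm k L S).toRingEquiv
  refine Sn.of_fibres n S (S ⊗[k] L) hS fun p _ => ?_
  haveI : Algebra.EssFiniteType S p.ResidueField := inferInstance
  haveI : Algebra.EssFiniteType k p.ResidueField := Algebra.EssFiniteType.comp k S p.ResidueField
  exact Sn.isoInvariant_ring n (p.ResidueField ⊗[k] L) _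
    (Algebra.TensorProduct.cancelBaseChange k S S p.ResidueField L).symm.toRingEquiv
    (hasSk_of_isCohenMacaulayRing n _ (CMTensor.isCohenMacaulayRing_tensor k p.ResidueField L))

theorem hasSk_tensor (n : ℕ) (k S T : Type u) [Field k] [CommRing S] [CommRing T] [Algebra k S]
    [Algebra k T] [Algebra.FiniteType k S] [IsNoetherianRing T]
    (hS : LocCoh.HasSk n S S) (hT : LocCoh.HasSk n T T) :
    LocCoh.HasSk n (T ⊗[k] S) (T ⊗[k] S) := by
  haveI : IsNoetherianRing (T ⊗[k] S) := Algebra.EssFiniteType.isNoetherianRing T _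
  refine Sn.of_fibres n T (T ⊗[k] S) hT fun q _ => ?_
  refine Sn.isoInvariant_ring n (S ⊗[k] q.ResidueField) _
    ((Algebra.TensorProduct.comm k S q.ResidueField).toRingEquiv.trans
      (Algebra.TensorProduct.cancelBaseChange k T T q.ResidueField S).symm.toRingEquiv) ?_
  exact hasSk_tensor_field n k S q.ResidueField hS

end Groth.Agent.Lib.EGA75.SnTensor
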