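import Groth.Agent.Lib.Cohen.GenRegInsep
import Groth.Agent.Lib.Excellent.QuotientNormal
import Groth.Agent.Lib.Regular.Serre
import Mathlib.RingTheory.Flat.Stability
import Mathlib.RingTheory.Ideal.KrullsHeightTheorem

/-!
# Lifting normality along flat local maps to a regular base
-/

set_option autoImplicit false
set_option linter.style.haveILetI false

universe u

open IsLocalRing
open scoped TensorProduct

namespace Groth.Agent.Lib.EGA75.Lifting

/-- A Noetherian local ring with a regular element `x` in the maximal ideal and `S/xS` a domain is a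
domain. -/
theorem isDomain_of_quotient (S : Type u) [CommRing S] [IsLocalRing S] [IsNoetherianRing S] {x : S}
    (hx : x ∈ maximalIdeal S) (hreg : IsSMulRegular S x) [IsDomain (S ⧸ Ideal.span {x})] :
    IsDomain S := by
  haveI hP : (Ideal.span {x}).IsPrime := (Ideal.Quotient.isDomain_iff_prime _).1 inferInstance
  obtain ⟨p, hp, hple⟩ := Ideal.exists_minimalPrimes_le (I := (⊥ : Ideal S)) (J := Ideal.span {x}) bot_le
  haveI := hp.1.1
  have hxp : x ∉ p := fun hxp =>
    Set.disjoint_left.1 (Ideal.disjoint_nonZeroDivisors_of_mem_minimalPrimes hp) hxp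
      (mem_nonZeroDivisors_iff_right.2 fun z hz => hreg.right_eq_zero_of_smul (by rwa [smul_eq_mul, mul_comm]))
  have hle : p ≤ Ideal.span {x} • p := fun y hy => by
    obtain ⟨a, rfl⟩ := Ideal.mem_span_singleton'.1 (hple hy)
    rw [smul_eq_mul, mul_comm a x]
    exact Ideal.mul_mem_mul (Ideal.mem_span_singleton_self x)
      ((hp.1.1.mem_or_mem hy).resolve_right hxp)
  have hp0 : p = ⊥ := Submodule.eq_bot_of_le_smul_of_le_jacobson_bot _ _ (IsNoetherian.noetherian p) hle
    (le_trans ((Ideal.span_singleton_le_iff_mem _).2 hx) (maximalIdeal_le_jacobson _))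
  haveI : (⊥ : Ideal S).IsPrime := hp0 ▸ hp.1.1
  exact IsDomain.of_bot_isPrime S

/-- A property of Noetherian local rings which can be checked modulo a regular element lifts along flat
local maps to regular local rings from the closed fibre. -/
theorem lift_of_quotient {P : ∀ (S : Type u) [CommRing S], Prop}
    (iso : ∀ (S S' : Type u) [CommRing S] [CommRing S'], (S ≃+* S') → P S → P S')
    (hquot : ∀ (S : Type u) [CommRing S] [IsLocalRing S] [IsNoetherianRing S] (y : S),
      y ∈ maximalIdeal S → IsSMulRegular S y → P (S ⧸ Ideal.span {y}) → P S) :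
    ∀ (d : ℕ) (R : Type u) [CommRing R] [IsRegularLocalRing R],
    (maximalIdeal R).spanFinrank = d → ∀ (S : Type u) [CommRing S] [IsLocalRing S] [IsNoetherianRing S]
      [Algebra R S] [Module.Flat R S] [IsLocalHom (algebraMap R S)],
      P (S ⧸ (maximalIdeal R).map (algebraMap R S)) → P S := by
  intro d
  induction d using Nat.strong_induction_on with
  | h d ih =>
  intro R _ _ hd S _ _ _ _ _ _ h1
  rcases Nat.eq_zero_or_pos d with rfl | hpos
  · have hm : maximalIdeal R = ⊥ :=
      (Submodule.spanFinrank_eq_zero_iff_eq_bot (Ideal.fg_of_isNoetherianRing _)).mp hd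
    let e : (S ⧸ (maximalIdeal R).map (algebraMap R S)) ≃+* S :=
      (Ideal.quotEquivOfEq (by rw [hm, Ideal.map_bot])).trans (RingEquiv.quotientBot S)
    exact iso _ _ e h1
  obtain ⟨x, hx, hx2⟩ := Groth.Agent.Lib.Regular.Serre.exists_notMem_sq (R := R) (by omega)
  haveI hR1 : IsRegularLocalRing (R ⧸ Ideal.span {x}) :=
    Groth.Agent.Lib.Cohen.GenRegInsep.quotient_singleton hx hx2
  have hlt : (maximalIdeal (R ⧸ Ideal.span {x})).spanFinrank < d :=
    hd ▸ Groth.Agent.Lib.Regular.Serre.spanFinrank_quotient_lt hx hx2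
  let y := algebraMap R S x
  have hy : y ∈ maximalIdeal S := map_nonunit (algebraMap R S) x hx
  let S1 := S ⧸ Ideal.span {y}
  haveI : Nontrivial S1 := Ideal.Quotient.nontrivial_iff.2 fun h =>
    (maximalIdeal.isMaximal S).ne_top (top_le_iff.1 (h ▸ (Ideal.span_singleton_le_iff_mem _).2 hy))
  haveI : IsLocalRing S1 := IsLocalRing.of_surjective' _ Ideal.Quotient.mk_surjective
  haveI : IsLocalHom (Ideal.Quotient.mk (Ideal.span {y})) :=
    IsLocalHom.of_surjective _ Ideal.Quotient.mk_surjective
  have hmap : (Ideal.span {x}).map (algebraMap R S) = Ideal.span {y} := by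
    rw [Ideal.map_span, Set.image_singleton]
  let ψ : R ⧸ Ideal.span {x} →+* S1 := Ideal.quotientMap _ (algebraMap R S) (by
    rw [← Ideal.map_le_iff_le_comap, hmap])
  letI : Algebra (R ⧸ Ideal.span {x}) S1 := ψ.toAlgebra
  haveI : IsScalarTower R (R ⧸ Ideal.span {x}) S1 := IsScalarTower.of_algebraMap_eq fun _ => rfl
  haveI : IsLocalHom (algebraMap (R ⧸ Ideal.span {x}) S1) := by
    refine ⟨fun a ha => ?_⟩
    obtain ⟨a, rfl⟩ := Ideal.Quotient.mk_surjective a
    exact ((isUnit_map_iff (algebraMap R S) a).1 ((isUnit_map_iff (Ideal.Quotient.mk (Ideal.span {y})) _).1 ha)).map _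
  haveI : Module.Flat (R ⧸ Ideal.span {x}) S1 := by
    let e : (R ⧸ Ideal.span {x}) ⊗[R] S ≃ₗ[R ⧸ Ideal.span {x}] S1 := LinearEquiv.ofBijective
      (TensorProduct.AlgebraTensorModule.lift
        ((LinearMap.toSpanSingleton (R ⧸ Ideal.span {x}) (S →ₗ[R] S1) (Ideal.Quotient.mkₐ R _).toLinearMap)))
      (by
        let E := (Algebra.TensorProduct.quotIdealMapEquivTensorQuot S (Ideal.span {x})).toRingEquiv.symm
        let F : S ⊗[R] (R ⧸ Ideal.span {x}) ≃+* S1 := E.trans (Ideal.quotEquivOfEq hmap)
        have hF : ∀ z : (R ⧸ Ideal.span {x}) ⊗[R] S,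
            (TensorProduct.AlgebraTensorModule.lift
              ((LinearMap.toSpanSingleton (R ⧸ Ideal.span {x}) (S →ₗ[R] S1)
                (Ideal.Quotient.mkₐ R _).toLinearMap))) z = F (Algebra.TensorProduct.comm R _ S z) := by
          intro z
          induction z using TensorProduct.induction_on with
          | zero => simp
          | add a b ha hb => simp only [map_add, ha, hb]
          | tmul a s =>
            obtain ⟨a, rfl⟩ := Ideal.Quotient.mk_surjective a
            simp [F, E, Algebra.smul_def]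
            rfl
        have : ⇑(TensorProduct.AlgebraTensorModule.lift
              ((LinearMap.toSpanSingleton (R ⧸ Ideal.span {x}) (S →ₗ[R] S1)
                (Ideal.Quotient.mkₐ R _).toLinearMap))) = F ∘ (Algebra.TensorProduct.comm R _ S) := funext hF
        rw [this]
        exact F.bijective.comp (AlgEquiv.bijective _))
    exact Module.Flat.of_linearEquiv e.symm
  let J := (maximalIdeal (R ⧸ Ideal.span {x})).map (algebraMap (R ⧸ Ideal.span {x}) S1)
  have hJ : J = ((maximalIdeal R).map (algebraMap R S)).map (Ideal.Quotient.mk (Ideal.span {y})) := by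
    change (maximalIdeal _).map ψ = _
    rw [Groth.Agent.Lib.Regular.Quotient.maximalIdeal_quotient, Ideal.map_map, Ideal.map_map]
    congr 1
  let e : (S1 ⧸ J) ≃+* S ⧸ (maximalIdeal R).map (algebraMap R S) :=
    (Ideal.quotEquivOfEq hJ).trans (DoubleQuot.quotQuotEquivQuotOfLE (by
      rw [← hmap]; exact Ideal.map_mono ((Ideal.span_singleton_le_iff_mem _).2 hx)))
  have hS1 : P S1 := ih _ hlt (R ⧸ Ideal.span {x}) rfl S1 (iso _ _ e.symm h1)
  haveI : IsDomain R := Groth.Agent.Lib.Regular.Quotient.isDomain R
  have hx0 : x ≠ 0 := fun h => hx2 (h ▸ zero_mem _)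
  have hreg : IsSMulRegular S y := by
    have := IsSMulRegular.of_flat (S := S) (IsRegular.of_ne_zero hx0).left
    intro a b hab
    refine this ?_
    simpa [y] using hab
  exact hquot S y hy hreg hS1

/-- A flat local algebra over a regular local ring with normal closed fibre is a normal domain. -/
theorem normal_of_regular (R : Type u) [CommRing R] [IsRegularLocalRing R] (S : Type u) [CommRing S]
    [IsLocalRing S] [IsNoetherianRing S] [Algebra R S] [Module.Flat R S] [IsLocalHom (algebraMap R S)]
    (h : IsDomain (S ⧸ (maximalIdeal R).map (algebraMap R S)) ∧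
      IsIntegrallyClosed (S ⧸ (maximalIdeal R).map (algebraMap R S))) :
    IsDomain S ∧ IsIntegrallyClosed S := by
  refine lift_of_quotient (P := fun S [CommRing S] => IsDomain S ∧ IsIntegrallyClosed S)
    (fun S S' _ _ e h => ?_) (fun S _ _ _ y hy hreg h => ?_) _ R rfl S h
  · obtain ⟨_, _⟩ := h
    exact ⟨e.symm.toMulEquiv.isDomain S, IsIntegrallyClosed.of_equiv e⟩
  · obtain ⟨_, _⟩ := h
    haveI : IsDomain S := isDomain_of_quotient S hy hreg
    have hy0 : y ≠ 0 := fun h => one_ne_zero (α := S) <| hreg (by simp [h])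
    exact ⟨inferInstance, Groth.Agent.Lib.Excellent.QuotientNormal.isIntegrallyClosed_of_quotient S hy hy0⟩

/-- A flat local algebra over a regular local ring with regular closed fibre is regular. -/
theorem regular_of_regular (R : Type u) [CommRing R] [IsRegularLocalRing R] (S : Type u) [CommRing S]
    [IsLocalRing S] [IsNoetherianRing S] [Algebra R S] [Module.Flat R S] [IsLocalHom (algebraMap R S)]
    (h : IsRegularLocalRing (S ⧸ (maximalIdeal R).map (algebraMap R S))) : IsRegularLocalRing S := by
  refine lift_of_quotient (P := fun S [CommRing S] => IsRegularLocalRing S)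
    (fun S S' _ _ e h => ?_) (fun S _ _ _ y hy hreg h => ?_) _ R rfl S h
  · exact IsRegularLocalRing.of_ringEquiv e
  · exact Groth.Agent.Lib.Regular.Quotient.of_quotient_singleton hy hreg h

end Groth.Agent.Lib.EGA75.Lifting
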