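import Groth.Agent.Lib.EGA75.Main
import Groth.Agent.Lib.EGA75.Lifting
import Groth.Agent.Lib.Excellent.NormalRing
import Groth.Agent.Lib.Excellent.Transport

/-!
# EGA IV 7.5: the complete case for normality and regularity
-/

set_option autoImplicit false
set_option linter.style.haveILetI false

universe u

open IsLocalRing
open scoped TensorProduct
open Groth.Agent.Lib.Excellent

namespace Groth.Agent.Lib.EGA75.Complete

/-- Base changes along finite field extensions of the residue field, read on finite fields over the base. -/
theorem of_closedFibre {P : ∀ (S : Type u) [CommRing S], Prop} (hP : FormalFibre.IsoInvariant.{u} P)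
    (R C : Type u) [CommRing R] [IsLocalRing R] [CommRing C] [Algebra R C]
    (h : ∀ (k' : Type u) [Field k'] [Algebra (maximalIdeal R).ResidueField k'],
      Module.Finite (maximalIdeal R).ResidueField k' →
        P (k' ⊗[(maximalIdeal R).ResidueField] (maximalIdeal R).Fiber C))
    (L : Type u) [Field L] [Algebra R L] [Module.Finite R L] : P (L ⊗[R] C) := by
  haveI : Algebra.IsIntegral R L := inferInstance
  have hm : RingHom.ker (algebraMap R L) = maximalIdeal R := by
    haveI : ((⊥ : Ideal L).comap (algebraMap R L)).IsMaximal := by
      haveI : (⊥ : Ideal L).IsMaximal := Ideal.bot_isMaximal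
      exact Ideal.isMaximal_comap_of_isIntegral_of_isMaximal ⊥
    exact IsLocalRing.eq_maximalIdeal (by rwa [RingHom.ker_eq_comap_bot])
  letI : Algebra (maximalIdeal R).ResidueField L := (Ideal.ResidueField.lift (maximalIdeal R)
    (algebraMap R L) hm.ge (fun x hx => (Ne.isUnit (fun h0 => hx (hm ▸ h0))))).toAlgebra
  haveI : IsScalarTower R (maximalIdeal R).ResidueField L := .of_algebraMap_eq fun a =>
    (Ideal.ResidueField.lift_algebraMap (I := maximalIdeal R) (algebraMap R L) hm.ge _ a).symm
  exact hP _ _ (Algebra.TensorProduct.cancelBaseChange R (maximalIdeal R).ResidueField L L C).toRingEquiv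
    (h L (Module.Finite.of_restrictScalars_finite R _ _))

theorem liftProp_normal :
    Main.LiftProp.{u} (fun S [CommRing S] => IsDomain S ∧ IsIntegrallyClosed S) where
  iso := NormalRing.isoInvariant_domainIntClosed
  lift R _ _ S _ _ _ _ _ _ h := Lifting.normal_of_regular R S h
  loc S _ _ _ h Q _ := by
    haveI := h.1
    haveI := h.2
    have hle : Q.primeCompl ≤ nonZeroDivisors S := Q.primeCompl_le_nonZeroDivisors
    exact ⟨IsLocalization.isDomain_localization hle,
      isIntegrallyClosed_of_isLocalization (Localization.AtPrime Q) Q.primeCompl hle⟩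

theorem liftProp_regular : Main.LiftProp.{u} (fun S [CommRing S] => IsRegularLocalRing S) where
  iso := fun _ _ _ _ e _ => IsRegularLocalRing.of_ringEquiv e
  lift R _ _ S _ _ _ _ _ _ h := Lifting.regular_of_regular R S h
  loc _ _ _ _ h Q _ := by
    haveI := h
    exact Regular.Serre.isRegularLocalRing_localization Q

/-- Fibres of flat local algebras with geometrically normal closed fibre over complete local rings. -/
theorem isNormalRing_finPoint (A B : Type u) [CommRing A] [CommRing B] [IsNoetherianRing A]
    [IsNoetherianRing B] [IsLocalRing A] [IsLocalRing B] [IsAdicComplete (maximalIdeal A) A]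
    [Algebra A B] [IsLocalHom (algebraMap A B)] [Module.Flat A B]
    [Module.Finite A (B ⧸ maximalIdeal B)]
    (h : EGA4.IsGeomNormal (maximalIdeal A).ResidueField ((maximalIdeal A).Fiber B))
    (K : Type u) [Field K] [Algebra A K] (hK : FormalFibre.IsFinPoint A K) :
    EGA4.IsNormalRing (K ⊗[A] B) := by
  intro Q _
  refine Main.fibres liftProp_normal A B (fun L _ _ _ Q _ => ?_) K hK Q
  exact of_closedFibre (P := fun R [CommRing R] => EGA4.IsNormalRing R)
    Transport.isoInvariant_isNormalRing A B h L Q

/-- The generic fibre of a finite domain over a Noetherian algebra is Noetherian. -/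
theorem isNoetherianRing_fraction (A B : Type u) [CommRing A] [CommRing B] [IsNoetherianRing B]
    [Algebra A B] (B0 : Type u) [CommRing B0] [IsDomain B0] [Algebra A B0] [Module.Finite A B0]
    (K : Type u) [Field K] [Algebra A K] [Algebra B0 K] [IsScalarTower A B0 K] [IsFractionRing B0 K] :
    IsNoetherianRing (K ⊗[A] B) := by
  haveI : IsNoetherianRing (B ⊗[A] B0) := IsNoetherianRing.of_finite B (B ⊗[A] B0)
  haveI : IsNoetherianRing (B0 ⊗[A] B) :=
    isNoetherianRing_of_ringEquiv (B ⊗[A] B0) (Algebra.TensorProduct.comm A B B0).toRingEquiv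
  letI : Algebra (B0 ⊗[A] B) (K ⊗[A] B) :=
    (Algebra.TensorProduct.map (IsScalarTower.toAlgHom A B0 K) (AlgHom.id A B)).toRingHom.toAlgebra
  haveI : IsScalarTower B0 (B0 ⊗[A] B) (K ⊗[A] B) := .of_algebraMap_eq fun x => by
    simp [RingHom.algebraMap_toAlgebra]
  haveI := IsLocalization.tensorProduct_tensorProduct A B (nonZeroDivisors B0) K
    (by ext; simp [RingHom.algebraMap_toAlgebra])
  exact IsLocalization.isNoetherianRing
    (Algebra.algebraMapSubmonoid (B0 ⊗[A] B) (nonZeroDivisors B0)) _ inferInstance

/-- The fibre at a finite point of a Noetherian algebra is Noetherian. -/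
theorem isNoetherianRing_finPoint (A B : Type u) [CommRing A] [CommRing B] [IsNoetherianRing B]
    [Algebra A B] (K : Type u) [Field K] [Algebra A K] (hK : FormalFibre.IsFinPoint A K) :
    IsNoetherianRing (K ⊗[A] B) := by
  obtain ⟨B0, hB0, hfr⟩ := hK
  exact isNoetherianRing_fraction A B B0 K

/-- Fibres of flat local algebras with geometrically regular closed fibre over complete local rings. -/
theorem isRegularRing_finPoint (A B : Type u) [CommRing A] [CommRing B] [IsNoetherianRing A]
    [IsNoetherianRing B] [IsLocalRing A] [IsLocalRing B] [IsAdicComplete (maximalIdeal A) A]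
    [Algebra A B] [IsLocalHom (algebraMap A B)] [Module.Flat A B]
    [Module.Finite A (B ⧸ maximalIdeal B)]
    (h : CAlg.IsGeometricallyRegular (maximalIdeal A).ResidueField ((maximalIdeal A).Fiber B))
    (K : Type u) [Field K] [Algebra A K] (hK : FormalFibre.IsFinPoint A K) :
    IsRegularRing (K ⊗[A] B) := by
  haveI := isNoetherianRing_finPoint A B K hK
  refine isRegularRing_iff.2 fun Q _ => ?_
  refine Main.fibres liftProp_regular A B (fun L _ _ _ Q _ => ?_) K hK Q
  haveI := of_closedFibre (P := fun R [CommRing R] => IsRegularRing R)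
    Transport.isoInvariant_isRegularRing A B h L
  exact IsRegularRing.isRegularLocalRing_localization Q

/-- Finiteness of the residue field in terms of the quotient. -/
theorem finite_residue (A B : Type u) [CommRing A] [CommRing B] [IsLocalRing A] [IsLocalRing B]
    [Algebra A B] [IsLocalHom (algebraMap A B)]
    [Module.Finite (ResidueField A) (ResidueField B)] : Module.Finite A (B ⧸ maximalIdeal B) := by
  haveI : Module.Finite A (ResidueField A) :=
    Module.Finite.of_surjective (Algebra.linearMap A (ResidueField A)) Ideal.Quotient.mk_surjective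
  exact Module.Finite.trans (R := A) (A := ResidueField A) (M := ResidueField B)

end Groth.Agent.Lib.EGA75.Complete
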