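import Groth.Agent.Lib.Goren.Flat
import Groth.Agent.Lib.Depth.CM
import Mathlib.RingTheory.Ideal.KrullsHeightTheorem
import Mathlib.RingTheory.Ideal.GoingDown

/-!
# Depth, dimension and the Cohen-Macaulay property along flat local maps
-/

set_option autoImplicit false
set_option linter.style.haveILetI false

universe u

open IsLocalRing TensorProduct Pointwise
open Groth.Agent.Lib

namespace Groth.Agent.Lib.EGA75.DepthFlat

open Groth.Agent.Lib.Goren.Flat Groth.Agent.Lib.Goren.Artin Groth.Agent.Lib.Goren.Basic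

/-- Depth drops by one modulo a regular element. -/
theorem depth_quotient_add_one {R : Type u} [CommRing R] [IsLocalRing R] [IsNoetherianRing R] {x : R}
    (hx : x ∈ maximalIdeal R) (hreg : IsSMulRegular R x) [IsLocalRing (R ⧸ Ideal.span {x})] :
    LocCoh.depth (R ⧸ Ideal.span {x}) (R ⧸ Ideal.span {x}) + 1 = LocCoh.depth R R := by
  rw [← Depth.CM.depth_quotient_eq, Depth.Basic.depth_congr
    (Submodule.quotEquivOfEq (Ideal.span {x}) (x • ⊤) (by
      rw [← Submodule.ideal_span_singleton_smul, smul_eq_mul, Ideal.mul_top]))]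
  exact Depth.SES.idealDepth_quotSMulTop _ hx hreg

/-- Depth zero of base and closed fibre gives depth zero. -/
theorem depth_eq_zero {A B : Type u} [CommRing A] [IsLocalRing A] [IsNoetherianRing A]
    [CommRing B] [IsLocalRing B] [IsNoetherianRing B] [Algebra A B] [IsLocalHom (algebraMap A B)]
    [Module.Flat A B] [IsLocalRing (B ⧸ (maximalIdeal A).map (algebraMap A B))]
    (hA : LocCoh.depth A A = 0)
    (hF : LocCoh.depth (B ⧸ (maximalIdeal A).map (algebraMap A B))
      (B ⧸ (maximalIdeal A).map (algebraMap A B)) = 0) : LocCoh.depth B B = 0 := by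
  set J := (maximalIdeal A).map (algebraMap A B) with hJ
  obtain ⟨φA, hφA⟩ := exists_residueField_embedding ((Depth.Assoc.depth_eq_zero_iff (M := A)).mp hA)
  let ι : (B ⧸ J) →ₗ[B] B :=
    (AlgebraTensorModule.rid A B B).toLinearMap ∘ₗ φA.baseChange B ∘ₗ
      (Algebra.TensorProduct.quotIdealMapEquivTensorQuot B (maximalIdeal A)).toLinearEquiv.toLinearMap
  have hι : Function.Injective ι := fun p q hpq =>
    (Algebra.TensorProduct.quotIdealMapEquivTensorQuot B (maximalIdeal A)).injective
      (Module.Flat.lTensor_preserves_injective_linearMap (M := B) φA hφA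
        ((AlgebraTensorModule.rid A B B).injective hpq))
  have hFB : LocCoh.depth B (B ⧸ J) = 0 := by rw [Depth.CM.depth_quotient_eq]; exact hF
  have h1 := (Depth.Assoc.depth_eq_zero_iff (M := B ⧸ J)).mp hFB
  exact (Depth.Assoc.depth_eq_zero_iff (M := B)).mpr (h1.map_of_injective ι hι)

theorem main : ∀ (a c : ℕ) (A B : Type u) [CommRing A] [IsLocalRing A] [IsNoetherianRing A]
    [CommRing B] [IsLocalRing B] [IsNoetherianRing B] [Algebra A B] [IsLocalHom (algebraMap A B)]
    [Module.Flat A B] [IsLocalRing (B ⧸ (maximalIdeal A).map (algebraMap A B))],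
    LocCoh.depth A A = a →
    LocCoh.depth (B ⧸ (maximalIdeal A).map (algebraMap A B))
      (B ⧸ (maximalIdeal A).map (algebraMap A B)) = c →
    LocCoh.depth B B = (a + c : ℕ) := by
  intro a
  induction a with
  | zero =>
    intro c
    induction c with
    | zero =>
      intro A B _ _ _ _ _ _ _ _ _ _ hA hF
      simpa using depth_eq_zero (A := A) (B := B) (by simpa using hA) (by simpa using hF)
    | succ c ih =>
      intro A B _ _ _ _ _ _ _ _ _ _ hA hF
      set J := (maximalIdeal A).map (algebraMap A B) with hJ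
      obtain ⟨y', hy'm, hy'reg, hdep⟩ := exists_regular hF
      obtain ⟨y, rfl⟩ := Ideal.Quotient.mk_surjective y'
      obtain ⟨hyreg, hflat⟩ := regular_flat_of_fibre (A := A) y hy'reg
      have hym : y ∈ maximalIdeal B := fun hu => hy'm (hu.map (Ideal.Quotient.mk J))
      set K := Ideal.span ({y} : Set B) with hK
      have := isLocalRing_quotient_span hym
      have := isLocalRing_quotient_span hy'm
      have : IsLocalHom (algebraMap A (B ⧸ K)) := by
        refine ((IsLocalRing.local_hom_TFAE (algebraMap A (B ⧸ K))).out 0 2).mpr ?_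
        rw [IsScalarTower.algebraMap_eq A B (B ⧸ K), ← Ideal.map_map, Ideal.Quotient.algebraMap_eq,
          ← IsLocalRing.map_maximalIdeal_of_surjective (Ideal.Quotient.mk K) Ideal.Quotient.mk_surjective]
        exact Ideal.map_mono (IsLocalRing.map_maximalIdeal_le _)
      let e : ((B ⧸ J) ⧸ Ideal.span {Ideal.Quotient.mk J y}) ≃+*
          (B ⧸ K) ⧸ (maximalIdeal A).map (algebraMap A (B ⧸ K)) :=
        ((Ideal.quotEquivOfEq (by rw [hK, Ideal.map_span, Set.image_singleton])).trans
          ((DoubleQuot.quotQuotEquivQuotSup J K).trans ((Ideal.quotEquivOfEq (sup_comm J K)).trans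
            (DoubleQuot.quotQuotEquivQuotSup K J).symm))).trans
          (Ideal.quotEquivOfEq (by
            rw [IsScalarTower.algebraMap_eq A B (B ⧸ K), ← Ideal.map_map, Ideal.Quotient.algebraMap_eq]))
      have : IsLocalRing ((B ⧸ K) ⧸ (maximalIdeal A).map (algebraMap A (B ⧸ K))) := e.isLocalRing
      have key := ih A (B ⧸ K) hA ((depth_ringEquiv e).symm.trans hdep)
      rw [← depth_quotient_add_one hym hyreg, key]
      push_cast
      rw [add_assoc]
  | succ a ih =>
    intro c A B _ _ _ _ _ _ _ _ _ _ hA hF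
    obtain ⟨x, hx, hreg, hdep⟩ := exists_regular hA
    set I := Ideal.span ({x} : Set A) with hI
    set K := I.map (algebraMap A B) with hK
    have hK' : K = Ideal.span {algebraMap A B x} := by
      rw [hK, hI, Ideal.map_span, Set.image_singleton]
    have hxB : algebraMap A B x ∈ maximalIdeal B := by
      have := IsLocalRing.map_maximalIdeal_le (algebraMap A B)
      exact this (Ideal.mem_map_of_mem _ hx)
    have hregB : IsSMulRegular B (algebraMap A B x) :=
      (RingTheory.Sequence.isWeaklyRegular_singleton_iff B _).mp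
        (RingTheory.Sequence.IsWeaklyRegular.of_flat (S := B)
          ((RingTheory.Sequence.isWeaklyRegular_singleton_iff A x).mpr hreg))
    have := isLocalRing_quotient_span hx
    have := isLocalRing_quotient_span hxB
    have : IsLocalRing (B ⧸ K) := (Ideal.quotEquivOfEq hK').symm.isLocalRing
    have : Module.Flat (A ⧸ I) (B ⧸ K) := Module.Flat.of_linearEquiv
      (Algebra.TensorProduct.quotIdealMapEquivQuotTensor B I).toLinearEquiv
    have hmA := IsLocalRing.map_maximalIdeal_of_surjective (Ideal.Quotient.mk I) Ideal.Quotient.mk_surjective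
    have hmB := IsLocalRing.map_maximalIdeal_of_surjective (Ideal.Quotient.mk K) Ideal.Quotient.mk_surjective
    have hmap : (maximalIdeal (A ⧸ I)).map (algebraMap (A ⧸ I) (B ⧸ K)) =
        ((maximalIdeal A).map (algebraMap A B)).map (Ideal.Quotient.mk K) := by
      rw [← hmA, Ideal.map_map, Ideal.map_map]
      rfl
    have : IsLocalHom (algebraMap (A ⧸ I) (B ⧸ K)) := by
      refine ((IsLocalRing.local_hom_TFAE (algebraMap (A ⧸ I) (B ⧸ K))).out 0 2).mpr ?_
      rw [hmap, ← hmB]
      exact Ideal.map_mono (IsLocalRing.map_maximalIdeal_le _)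
    have hKle : K ≤ (maximalIdeal A).map (algebraMap A B) :=
      Ideal.map_mono ((Ideal.span_singleton_le_iff_mem _).mpr hx)
    let e : (B ⧸ (maximalIdeal A).map (algebraMap A B)) ≃+*
        (B ⧸ K) ⧸ (maximalIdeal (A ⧸ I)).map (algebraMap (A ⧸ I) (B ⧸ K)) :=
      ((Ideal.quotEquivOfEq hmap).trans (DoubleQuot.quotQuotEquivQuotOfLE hKle)).symm
    have : IsLocalRing ((B ⧸ K) ⧸ (maximalIdeal (A ⧸ I)).map (algebraMap (A ⧸ I) (B ⧸ K))) :=
      e.isLocalRing
    have key := ih c (A ⧸ I) (B ⧸ K) hdep ((depth_ringEquiv e).symm.trans hF)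
    rw [depth_ringEquiv (Ideal.quotEquivOfEq hK')] at key
    rw [← depth_quotient_add_one hxB hregB, key]
    push_cast
    rw [add_right_comm]

/-- The depth of a flat local extension is the sum of those of the base and the closed fibre. -/
theorem depth_eq_add (A B : Type u) [CommRing A] [IsLocalRing A] [IsNoetherianRing A]
    [CommRing B] [IsLocalRing B] [IsNoetherianRing B] [Algebra A B] [IsLocalHom (algebraMap A B)]
    [Module.Flat A B] [IsLocalRing (B ⧸ (maximalIdeal A).map (algebraMap A B))] :
    LocCoh.depth B B = LocCoh.depth A A + LocCoh.depth (B ⧸ (maximalIdeal A).map (algebraMap A B))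
      (B ⧸ (maximalIdeal A).map (algebraMap A B)) := by
  obtain ⟨a, ha⟩ := ENat.ne_top_iff_exists.mp (Depth.Assoc.depth_ne_top (R := A) A)
  obtain ⟨c, hc⟩ := ENat.ne_top_iff_exists.mp (Depth.Assoc.depth_ne_top
    (R := B ⧸ (maximalIdeal A).map (algebraMap A B)) (B ⧸ (maximalIdeal A).map (algebraMap A B)))
  rw [main a c A B ha.symm hc.symm, ← ha, ← hc, Nat.cast_add]

/-- The dimension of a flat local extension is the sum of those of the base and the closed fibre. -/
theorem ringKrullDim_eq_add (A B : Type u) [CommRing A] [IsLocalRing A] [IsNoetherianRing A]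
    [CommRing B] [IsLocalRing B] [IsNoetherianRing B] [Algebra A B] [IsLocalHom (algebraMap A B)]
    [Module.Flat A B] [IsLocalRing (B ⧸ (maximalIdeal A).map (algebraMap A B))] :
    ringKrullDim B = ringKrullDim A + ringKrullDim (B ⧸ (maximalIdeal A).map (algebraMap A B)) := by
  haveI : (maximalIdeal B).LiesOver (maximalIdeal A) :=
    ⟨(IsLocalRing.maximalIdeal_comap (algebraMap A B)).symm⟩
  rw [← maximalIdeal_height_eq_ringKrullDim, ← maximalIdeal_height_eq_ringKrullDim,
    ← maximalIdeal_height_eq_ringKrullDim,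
    Ideal.height_eq_height_add_of_liesOver_of_hasGoingDown (maximalIdeal A) (maximalIdeal B),
    WithBot.coe_add, map_maximalIdeal_of_surjective _ Ideal.Quotient.mk_surjective]

/-- A flat local extension is Cohen-Macaulay iff base and closed fibre are. -/
theorem isCohenMacaulay_flat_iff (A B : Type u) [CommRing A] [IsLocalRing A] [IsNoetherianRing A]
    [CommRing B] [IsLocalRing B] [IsNoetherianRing B] [Algebra A B] [IsLocalHom (algebraMap A B)]
    [Module.Flat A B] :
    LocCoh.IsCohenMacaulayLocalRing B ↔ (LocCoh.IsCohenMacaulayLocalRing A ∧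
      LocCoh.IsCohenMacaulayLocalRing (B ⧸ (maximalIdeal A).map (algebraMap A B))) := by
  set F := B ⧸ (maximalIdeal A).map (algebraMap A B)
  have : Nontrivial F := Ideal.Quotient.nontrivial_iff.mpr (IsLocalRing.map_maximalIdeal_lt_top _).ne
  have : IsLocalRing F := IsLocalRing.of_surjective' _ Ideal.Quotient.mk_surjective
  have hdep : LocCoh.depth B B = LocCoh.depth A A + LocCoh.depth F F := depth_eq_add A B
  have hdim : ringKrullDim B = ringKrullDim A + ringKrullDim F := ringKrullDim_eq_add A B
  have h1 := Depth.Assoc.depth_le_ringKrullDim (R := A) A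
  have h2 := Depth.Assoc.depth_le_ringKrullDim (R := F) F
  obtain ⟨a, ha⟩ := ENat.ne_top_iff_exists.mp (Depth.Assoc.depth_ne_top (R := A) A)
  obtain ⟨c, hc⟩ := ENat.ne_top_iff_exists.mp (Depth.Assoc.depth_ne_top (R := F) F)
  obtain ⟨n, hn⟩ := ENat.ne_top_iff_exists.mp (Ideal.height_ne_top
    (IsLocalRing.maximalIdeal.isMaximal A).ne_top)
  obtain ⟨m, hm⟩ := ENat.ne_top_iff_exists.mp (Ideal.height_ne_top
    (IsLocalRing.maximalIdeal.isMaximal F).ne_top)
  rw [Depth.CM.isCohenMacaulayLocalRing_iff, Depth.CM.isCohenMacaulayLocalRing_iff,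
    Depth.CM.isCohenMacaulayLocalRing_iff, hdep, hdim, ← ha, ← hc]
  rw [← ha, ← maximalIdeal_height_eq_ringKrullDim, ← hn] at h1
  rw [← hc, ← maximalIdeal_height_eq_ringKrullDim, ← hm] at h2
  rw [← maximalIdeal_height_eq_ringKrullDim, ← maximalIdeal_height_eq_ringKrullDim, ← hn, ← hm]
  norm_cast at h1 h2 ⊢
  omega

end Groth.Agent.Lib.EGA75.DepthFlat
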