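import Groth.Agent.Lib.EGA75.Comp
import Groth.Agent.Lib.EGA75.Complete
import Groth.Agent.Lib.EGA75.DepthFlat
import Groth.Agent.Lib.JacCrit.FlatRegular

/-!
# The Cohen-Macaulay property on fibres
-/

set_option autoImplicit false
set_option linter.style.haveILetI false

universe u

open IsLocalRing
open scoped TensorProduct
open Groth.Agent.Lib.Excellent

namespace Groth.Agent.Lib.EGA75.CM

theorem isoInvariant : FormalFibre.IsoInvariant.{u}
    (fun S [CommRing S] => LocCoh.IsCohenMacaulayLocalRing S) :=
  fun R S _ _ e h => by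
    haveI := h
    exact Transport.isCohenMacaulayLocalRing_of_ringEquiv e

theorem compProp : Comp.CompProp.{u} (fun S [CommRing S] => LocCoh.IsCohenMacaulayLocalRing S) where
  iso := isoInvariant
  comp R _ _ _ S _ _ _ _ _ _ hR hF := (DepthFlat.isCohenMacaulay_flat_iff R S).2 ⟨hR, hF⟩

theorem liftProp : Main.LiftProp.{u} (fun S [CommRing S] => LocCoh.IsCohenMacaulayLocalRing S) where
  iso := isoInvariant
  lift R _ _ S _ _ _ _ _ _ hF := (DepthFlat.isCohenMacaulay_flat_iff R S).2
    ⟨Groth.Agent.Lib.JacCrit.FlatRegular.isCohenMacaulayLocalRing R, hF⟩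
  loc S _ _ _ h Q _ := by
    haveI := h
    exact Groth.Agent.Lib.Depth.CM.isCohenMacaulayLocalRing_localization Q

/-- Zero-dimensional Noetherian local rings are Cohen-Macaulay. -/
theorem of_dim_zero (R : Type u) [CommRing R] [IsLocalRing R] [IsNoetherianRing R]
    (h : ringKrullDim R ≤ 0) : LocCoh.IsCohenMacaulayLocalRing R :=
  Groth.Agent.Lib.Depth.CM.isCohenMacaulayLocalRing_iff.2 (h.trans (WithBot.coe_le_coe.2 (zero_le)))

/-- Cohen-Macaulay rings in terms of their local rings. -/
theorem of_forall (R : Type u) [CommRing R] [IsNoetherianRing R]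
    (h : ∀ (p : Ideal R) [p.IsPrime], LocCoh.IsCohenMacaulayLocalRing (Localization.AtPrime p)) :
    LocCoh.IsCohenMacaulayRing R :=
  { ‹IsNoetherianRing R› with isCohenMacaulayLocalRing_localization := h }

/-- A finite flat algebra over a Cohen-Macaulay ring is Cohen-Macaulay. -/
theorem of_finite_flat (F T : Type u) [CommRing F] [CommRing T] [Algebra F T] [Module.Finite F T]
    [Module.Flat F T] (h : LocCoh.IsCohenMacaulayRing F) : LocCoh.IsCohenMacaulayRing T := by
  haveI := h
  haveI : IsNoetherianRing F := h.1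
  haveI : IsNoetherianRing T := IsNoetherianRing.of_finite F T
  refine of_forall T fun Q _ => ?_
  refine Comp.atPrime compProp F T Q _ rfl (h.isCohenMacaulayLocalRing_localization _) fun Qb _ hQb => ?_
  haveI : IsNoetherianRing (Localization.AtPrime Qb) :=
    IsLocalization.isNoetherianRing Qb.primeCompl _ inferInstance
  refine of_dim_zero _ ?_
  rw [IsLocalization.AtPrime.ringKrullDim_eq_height Qb (Localization.AtPrime Qb)]
  refine le_of_eq (WithBot.coe_eq_zero.2 (Ideal.height_eq_zero_iff.2 ⟨⟨inferInstance, bot_le⟩, ?_⟩))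
  intro P hP hle
  haveI := hP.1
  rcases eq_or_lt_of_le hle with he | hlt
  · exact he.ge
  have hcomap : Qb.comap (algebraMap F _) = Q.comap (algebraMap F T) := by
    rw [IsScalarTower.algebraMap_eq F T (T ⧸ (Q.comap (algebraMap F T)).map (algebraMap F T)), ← Ideal.comap_comap,
      Ideal.Quotient.algebraMap_eq, hQb]
  have hlt' := Ideal.IsIntegral.comap_lt_comap (R := F) hlt
  exfalso
  refine hlt'.not_ge ?_
  change Qb.comap (algebraMap F _) ≤ P.comap (algebraMap F _)
  rw [hcomap]
  intro a ha
  rw [Ideal.mem_comap, IsScalarTower.algebraMap_apply F T (T ⧸ (Q.comap (algebraMap F T)).map (algebraMap F T)),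
    Ideal.Quotient.algebraMap_eq, Ideal.Quotient.eq_zero_iff_mem.2 (Ideal.mem_map_of_mem _ ha)]
  exact zero_mem _

/-- Cohen-Macaulayness descends along faithfully flat maps. -/
theorem descent (R S : Type u) [CommRing R] [CommRing S] [IsNoetherianRing R] [IsNoetherianRing S]
    [Algebra R S] [Module.FaithfullyFlat R S] (h : LocCoh.IsCohenMacaulayRing S) :
    LocCoh.IsCohenMacaulayRing R := by
  refine of_forall R fun p _ => ?_
  obtain ⟨q, hq⟩ := PrimeSpectrum.comap_surjective_of_faithfullyFlat (A := R) (B := S) ⟨p, ‹_›⟩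
  have e : q.asIdeal.comap (algebraMap R S) = p := congrArg PrimeSpectrum.asIdeal hq
  subst e
  let p := q.asIdeal.comap (algebraMap R S)
  letI : Algebra (Localization.AtPrime p) (Localization.AtPrime q.asIdeal) :=
    (Localization.localRingHom p q.asIdeal (algebraMap R S) rfl).toAlgebra
  haveI : IsScalarTower R (Localization.AtPrime p) (Localization.AtPrime q.asIdeal) :=
    .of_algebraMap_eq fun x => by
      rw [RingHom.algebraMap_toAlgebra, Localization.localRingHom_to_map,
        IsScalarTower.algebraMap_apply R S (Localization.AtPrime q.asIdeal)]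
  haveI : IsLocalHom (algebraMap (Localization.AtPrime p) (Localization.AtPrime q.asIdeal)) :=
    Localization.isLocalHom_localRingHom _ _ _ rfl
  haveI : Module.Flat R (Localization.AtPrime q.asIdeal) := Module.Flat.trans R S _
  haveI : Module.Flat (Localization.AtPrime p) (Localization.AtPrime q.asIdeal) :=
    (Module.flat_iff_of_isLocalization (Localization.AtPrime p) p.primeCompl _).2 ‹_›
  haveI : IsNoetherianRing (Localization.AtPrime p) :=
    IsLocalization.isNoetherianRing p.primeCompl _ inferInstance
  haveI : IsNoetherianRing (Localization.AtPrime q.asIdeal) :=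
    IsLocalization.isNoetherianRing q.asIdeal.primeCompl _ inferInstance
  exact ((DepthFlat.isCohenMacaulay_flat_iff (Localization.AtPrime p) (Localization.AtPrime q.asIdeal)).1
    (h.isCohenMacaulayLocalRing_localization q.asIdeal)).1

theorem isoInvariant_ring : FormalFibre.IsoInvariant.{u}
    (fun S [CommRing S] => LocCoh.IsCohenMacaulayRing S) := Transport.isoInvariant_isCohenMacaulayRing

/-- Cohen-Macaulay fibres are Cohen-Macaulay at all finite points. -/
theorem finPoint_of_fibres (A B : Type u) [CommRing A] [CommRing B] [IsNoetherianRing B] [Algebra A B]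
    (h : ∀ (p : Ideal A) [p.IsPrime], LocCoh.IsCohenMacaulayRing (p.Fiber B))
    (K : Type u) [Field K] [Algebra A K] (hK : FormalFibre.IsFinPoint A K) :
    LocCoh.IsCohenMacaulayRing (K ⊗[A] B) := by
  refine (FormalFibre.forall_fibre_iff isoInvariant_ring B).1 (fun p _ k' _ _ _ => ?_) K hK
  refine isoInvariant_ring (p.Fiber B ⊗[p.ResidueField] k') _ (Algebra.TensorProduct.comm p.ResidueField (p.Fiber B) k').toRingEquiv ?_
  exact of_finite_flat (p.Fiber B) (p.Fiber B ⊗[p.ResidueField] k') (h p)

/-- The fibres from the local rings at finite points. -/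
theorem fibres_of_forall (A B : Type u) [CommRing A] [CommRing B] [IsNoetherianRing B] [Algebra A B]
    (h : ∀ (K : Type u) [Field K] [Algebra A K], FormalFibre.IsFinPoint A K →
      ∀ (Q : Ideal (K ⊗[A] B)) [Q.IsPrime], LocCoh.IsCohenMacaulayLocalRing (Localization.AtPrime Q))
    (p : Ideal A) [p.IsPrime] (K : Type u) [Field K] [Algebra p.ResidueField K]
    (hK : Module.Finite p.ResidueField K) :
    LocCoh.IsCohenMacaulayRing (K ⊗[p.ResidueField] p.Fiber B) :=
  (FormalFibre.forall_fibre_iff isoInvariant_ring B).2 (fun L _ _ hL => by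
    haveI := Complete.isNoetherianRing_finPoint A B L hL
    exact of_forall _ fun Q _ => h L hL Q) p K hK

end Groth.Agent.Lib.EGA75.CM
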