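import Groth.Agent.Lib.EGA75.CM
import Groth.Agent.Lib.EGA75.Lifting
import Groth.Agent.Lib.Regular.Descent
import Mathlib.RingTheory.Spectrum.Prime.Topology

/-!
# Transport of loci along flat maps
-/

set_option autoImplicit false
set_option linter.style.haveILetI false

universe u

open IsLocalRing
open scoped TensorProduct
open Groth.Agent.Lib.Excellent

namespace Groth.Agent.Lib.EGA75.Loci

theorem compProp_regular :
    Comp.CompProp.{u} (fun S [CommRing S] => IsRegularLocalRing S) where
  iso := fun _ _ _ _ e _ => IsRegularLocalRing.of_ringEquiv e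
  comp R _ _ _ S _ _ _ _ _ _ hR hF := by
    haveI := hR
    exact Lifting.regular_of_regular R S hF

/-- A property holds at a prime if it does at its image and on the fibre. -/
theorem atPrime_of_fibre {P : ∀ (S : Type u) [CommRing S], Prop} (hP : Comp.CompProp P)
    (A C : Type u) [CommRing A] [IsNoetherianRing A] [CommRing C] [IsNoetherianRing C] [Algebra A C]
    [Module.Flat A C] (Q : Ideal C) [Q.IsPrime] (p : Ideal A) [p.IsPrime]
    (hQp : Q.comap (algebraMap A C) = p) (hA : P (Localization.AtPrime p))
    (hfib : ∀ (Q' : Ideal (p.Fiber C)) [Q'.IsPrime], P (Localization.AtPrime Q')) :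
    P (Localization.AtPrime Q) :=
  Comp.atPrime hP A C Q p hQp hA fun Qb _ hQb => Comp.fibre_atPrime hP.iso A C p Q hQp hfib Qb hQb

/-- A property descending along flat local maps descends to the image of a prime. -/
theorem atPrime_descend {P : ∀ (S : Type u) [CommRing S], Prop}
    (hd : ∀ (R S : Type u) [CommRing R] [IsLocalRing R] [IsNoetherianRing R] [CommRing S]
      [IsLocalRing S] [IsNoetherianRing S] [Algebra R S] [Module.Flat R S]
      [IsLocalHom (algebraMap R S)], P S → P R)
    (A C : Type u) [CommRing A] [IsNoetherianRing A] [CommRing C] [IsNoetherianRing C] [Algebra A C]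
    [Module.Flat A C] (Q : Ideal C) [Q.IsPrime] (p : Ideal A) [p.IsPrime]
    (hQp : Q.comap (algebraMap A C) = p) (h : P (Localization.AtPrime Q)) :
    P (Localization.AtPrime p) := by
  letI : Algebra (Localization.AtPrime p) (Localization.AtPrime Q) :=
    (Localization.localRingHom p Q (algebraMap A C) hQp.symm).toAlgebra
  haveI : IsScalarTower A (Localization.AtPrime p) (Localization.AtPrime Q) :=
    .of_algebraMap_eq fun x => by
      rw [RingHom.algebraMap_toAlgebra, Localization.localRingHom_to_map,
        IsScalarTower.algebraMap_apply A C (Localization.AtPrime Q)]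
  haveI : IsLocalHom (algebraMap (Localization.AtPrime p) (Localization.AtPrime Q)) :=
    Localization.isLocalHom_localRingHom _ _ _ hQp.symm
  haveI : Module.Flat A (Localization.AtPrime Q) := Module.Flat.trans A C _
  haveI : Module.Flat (Localization.AtPrime p) (Localization.AtPrime Q) :=
    (Module.flat_iff_of_isLocalization (Localization.AtPrime p) p.primeCompl _).2 ‹_›
  haveI : IsNoetherianRing (Localization.AtPrime p) :=
    IsLocalization.isNoetherianRing p.primeCompl _ inferInstance
  haveI : IsNoetherianRing (Localization.AtPrime Q) :=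
    IsLocalization.isNoetherianRing Q.primeCompl _ inferInstance
  exact hd _ _ h

theorem descend_regular (R S : Type u) [CommRing R] [IsLocalRing R] [IsNoetherianRing R] [CommRing S]
    [IsLocalRing S] [IsNoetherianRing S] [Algebra R S] [Module.Flat R S]
    [IsLocalHom (algebraMap R S)] (h : IsRegularLocalRing S) : IsRegularLocalRing R := by
  haveI := h
  exact Groth.Agent.Lib.Regular.Descent.isRegularLocalRing_of_flat S

theorem descend_CM (R S : Type u) [CommRing R] [IsLocalRing R] [IsNoetherianRing R] [CommRing S]
    [IsLocalRing S] [IsNoetherianRing S] [Algebra R S] [Module.Flat R S]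
    [IsLocalHom (algebraMap R S)] (h : LocCoh.IsCohenMacaulayLocalRing S) :
    LocCoh.IsCohenMacaulayLocalRing R :=
  ((DepthFlat.isCohenMacaulay_flat_iff R S).1 h).1

/-- Openness of a set of primes descends along faithfully flat maps. -/
theorem isOpen_of_preimage (A C : Type u) [CommRing A] [CommRing C] [Algebra A C]
    [Module.FaithfullyFlat A C] {s : Set (PrimeSpectrum A)}
    (h : IsOpen (PrimeSpectrum.comap (algebraMap A C) ⁻¹' s)) : IsOpen s := by
  refine ((PrimeSpectrum.isQuotientMap_of_generalizingMap
    PrimeSpectrum.comap_surjective_of_faithfullyFlat ?_).isOpen_preimage).1 h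
  exact Algebra.HasGoingDown.iff_generalizingMap_primeSpectrumComap.1 inferInstance

end Groth.Agent.Lib.EGA75.Loci
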