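import Groth.Agent.Lib.EGA75.CM
import Groth.Agent.Lib.EGA75.Loci
import Groth.Agent.Lib.Excellent.RegLocus
import Groth.Agent.Lib.Depth.SES
import Mathlib.RingTheory.Ideal.AssociatedPrime.Finiteness
import Mathlib.RingTheory.Flat.Localization

/-!
# Nagata's criterion for the openness of the Cohen-Macaulay locus
-/

set_option autoImplicit false
set_option linter.style.haveILetI false

universe u

open IsLocalRing
open scoped TensorProduct
open Groth.Agent.Lib
open Groth.Agent.Lib.Excellent

namespace Groth.Agent.Lib.EGA75.CMLocus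

/-- Near a minimal prime `p` the depth of a finite module is at least that of `A/p`. -/
theorem exists_depth_le (A : Type u) [CommRing A] [IsNoetherianRing A] (p : Ideal A) [p.IsPrime]
    (hmin : p ∈ minimalPrimes A) (M : Type u) [AddCommGroup M] [Module A M] [Module.Finite A M] :
    ∃ f : A, f ∉ p ∧ ∀ (q : Ideal A) [q.IsPrime], f ∉ q → ∀ d : ℕ,
      (d : ℕ∞) ≤ LocCoh.depth (Localization.AtPrime q) (Localization.AtPrime q ⊗[A] (A ⧸ p)) →
      (d : ℕ∞) ≤ LocCoh.depth (Localization.AtPrime q) (Localization.AtPrime q ⊗[A] M) := by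
  induction ‹Module.Finite A M› using IsNoetherianRing.induction_on_isQuotientEquivQuotientPrime A with
  | subsingleton N =>
    refine ⟨1, p.primeCompl.one_mem, fun q _ _ d _ => ?_⟩
    haveI : Subsingleton (Localization.AtPrime q ⊗[A] N) := inferInstance
    rw [LocCoh.depth, Depth.Basic.idealDepth_subsingleton]
    exact le_top
  | quotient N P e =>
    by_cases hP : P.asIdeal = p
    · refine ⟨1, p.primeCompl.one_mem, fun q _ _ d hd => ?_⟩
      let e' : Localization.AtPrime q ⊗[A] N ≃ₗ[Localization.AtPrime q]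
          Localization.AtPrime q ⊗[A] (A ⧸ p) :=
        (e.trans (Submodule.quotEquivOfEq _ _ hP)).baseChange A (Localization.AtPrime q) _ _
      rw [Depth.Basic.depth_congr e']
      exact hd
    · obtain ⟨f, hfP, hfp⟩ := SetLike.not_le_iff_exists.1 fun hle : P.asIdeal ≤ p =>
        hP (le_antisymm hle (hmin.2 ⟨P.2, bot_le⟩ hle))
      refine ⟨f, hfp, fun q _ hfq d _ => ?_⟩
      haveI : Subsingleton (Localization.AtPrime q ⊗[A] (A ⧸ P.asIdeal)) := by
        have hu : IsUnit (algebraMap A (Localization.AtPrime q) f) :=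
          IsLocalization.map_units _ (⟨f, hfq⟩ : q.primeCompl)
        haveI : Subsingleton (Localization.AtPrime q ⧸ P.asIdeal.map (algebraMap A (Localization.AtPrime q))) :=
          Ideal.Quotient.subsingleton_iff.2 (Ideal.eq_top_of_isUnit_mem _ (Ideal.mem_map_of_mem _ hfP) hu)
        exact (Algebra.TensorProduct.quotIdealMapEquivTensorQuot (Localization.AtPrime q)
          P.asIdeal).symm.injective.subsingleton
      haveI : Subsingleton (Localization.AtPrime q ⊗[A] N) :=
        (e.baseChange A (Localization.AtPrime q) _ _).injective.subsingleton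
      rw [LocCoh.depth, Depth.Basic.idealDepth_subsingleton]
      exact le_top
  | exact N₁ N₂ N₃ f g hf hg hfg h₁ h₃ =>
    obtain ⟨f₁, hf₁, h₁⟩ := h₁
    obtain ⟨f₃, hf₃, h₃⟩ := h₃
    refine ⟨f₁ * f₃, fun h => ((‹p.IsPrime›).mem_or_mem h).elim hf₁ hf₃, fun q _ hq d hd => ?_⟩
    haveI : IsNoetherianRing (Localization.AtPrime q) :=
      IsLocalization.isNoetherianRing q.primeCompl _ inferInstance
    have h1 := h₁ q (fun h => hq (q.mul_mem_right _ h)) d hd
    have h3 := h₃ q (fun h => hq (q.mul_mem_left _ h)) d hd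
    exact Depth.SES.le_idealDepth_middle (maximalIdeal (Localization.AtPrime q))
      (f := f.baseChange (Localization.AtPrime q)) (g := g.baseChange (Localization.AtPrime q))
      (Module.Flat.lTensor_preserves_injective_linearMap f hf)
      (lTensor_exact (Localization.AtPrime q) hfg hg)
      (LinearMap.lTensor_surjective (Localization.AtPrime q) hg) h1 h3

/-- The local ring of a quotient ring as a quotient of the local ring. -/
theorem nonempty_quotientEquiv (A : Type u) [CommRing A] (J : Ideal A) (Qb : Ideal (A ⧸ J)) [Qb.IsPrime]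
    (q : Ideal A) [q.IsPrime] (hq : Qb.comap (Ideal.Quotient.mk J) = q) :
    Nonempty (Localization.AtPrime Qb ≃+*
      Localization.AtPrime q ⧸ J.map (algebraMap A (Localization.AtPrime q))) := by
  have hM : Algebra.algebraMapSubmonoid (A ⧸ J) q.primeCompl = Qb.primeCompl := by
    ext y
    constructor
    · rintro ⟨t, ht, rfl⟩ hty
      exact ht (hq ▸ hty)
    · intro hy
      obtain ⟨t, rfl⟩ := Ideal.Quotient.mk_surjective y
      exact ⟨t, fun ht => hy (hq.symm ▸ ht : t ∈ Qb.comap (Ideal.Quotient.mk J)), rfl⟩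
  haveI : IsLocalization Qb.primeCompl
      (Localization.AtPrime q ⧸ J.map (algebraMap A (Localization.AtPrime q))) := hM ▸ inferInstance
  exact ⟨(IsLocalization.algEquiv Qb.primeCompl (Localization.AtPrime Qb) _).toRingEquiv⟩

/-- Cohen-Macaulay points spread out inside their closure. -/
theorem exists_nhd : ∀ (r : ℕ) (A : Type u) [CommRing A] [IsNoetherianRing A] (p : Ideal A) [p.IsPrime],
    p.height = r → LocCoh.IsCohenMacaulayLocalRing (Localization.AtPrime p) →
    ∀ (g : A), g ∉ p → (∀ (Qb : Ideal (A ⧸ p)) [Qb.IsPrime], Ideal.Quotient.mk p g ∉ Qb →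
      LocCoh.IsCohenMacaulayLocalRing (Localization.AtPrime Qb)) →
    ∃ f : A, f ∉ p ∧ ∀ (q : Ideal A) [q.IsPrime], p ≤ q → f ∉ q →
      LocCoh.IsCohenMacaulayLocalRing (Localization.AtPrime q) := by
  intro r
  induction r with
  | zero =>
    intro A _ _ p _ hr _ g hg hCM
    classical
    have hmin : p ∈ minimalPrimes A := Ideal.height_eq_zero_iff.1 (by simpa using hr)
    obtain ⟨f, hf, hdep⟩ := exists_depth_le A p hmin A
    have hfin : (minimalPrimes A).Finite := minimalPrimes.finite_of_isNoetherianRing A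
    have : ∀ P ∈ hfin.toFinset.erase p, ∃ a, a ∈ P ∧ a ∉ p := fun P hP => by
      rw [Finset.mem_erase, Set.Finite.mem_toFinset] at hP
      exact SetLike.not_le_iff_exists.1 fun hle => hP.1 (le_antisymm hle (hmin.2 hP.2.1 hle))
    choose! a haP hap using this
    let b := ∏ P ∈ hfin.toFinset.erase p, a P
    have hb : b ∉ p := p.primeCompl.prod_mem fun P hP => hap P hP
    refine ⟨f * g * b, fun h => ((‹p.IsPrime›).mem_or_mem h).elim
      (fun h' => ((‹p.IsPrime›).mem_or_mem h').elim hf hg) hb, fun q _ hpq hq => ?_⟩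
    haveI : IsNoetherianRing (Localization.AtPrime q) :=
      IsLocalization.isNoetherianRing q.primeCompl _ inferInstance
    let R := Localization.AtPrime q
    let J := p.map (algebraMap A R)
    let Qb := q.map (Ideal.Quotient.mk p)
    haveI : Qb.IsPrime := Ideal.map_isPrime_of_surjective Ideal.Quotient.mk_surjective (by rwa [Ideal.mk_ker])
    have hQb : Qb.comap (Ideal.Quotient.mk p) = q := by
      rw [Ideal.comap_map_of_surjective _ Ideal.Quotient.mk_surjective, ← RingHom.ker_eq_comap_bot,
        Ideal.mk_ker, sup_eq_left.2 hpq]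
    obtain ⟨e⟩ := nonempty_quotientEquiv A p Qb q hQb
    haveI : IsLocalRing (R ⧸ J) := e.isLocalRing
    haveI : LocCoh.IsCohenMacaulayLocalRing (R ⧸ J) := CM.isoInvariant _ _ e (hCM Qb fun h => hq <|
      q.mul_mem_right _ <| q.mul_mem_left _ (hQb ▸ (h : g ∈ Qb.comap (Ideal.Quotient.mk p))))
    -- all primes of the local ring contain `J`
    have hJ : J ≤ (⊥ : Ideal R).radical := by
      rw [Ideal.radical_eq_sInf]
      refine le_sInf fun P ⟨_, hP⟩ => ?_
      haveI := hP
      obtain ⟨P0, hP0, hP0le⟩ := Ideal.exists_minimalPrimes_le (I := (⊥ : Ideal A))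
        (J := P.comap (algebraMap A R)) bot_le
      rw [show J = p.map (algebraMap A R) from rfl, Ideal.map_le_iff_le_comap]
      by_cases hP0p : P0 = p
      · exact hP0p ▸ hP0le
      · exfalso
        have hbP0 : b ∈ P0 := by
          have hmem : P0 ∈ hfin.toFinset.erase p := Finset.mem_erase.2 ⟨hP0p, hfin.mem_toFinset.2 hP0⟩
          exact P0.mem_of_dvd (Finset.dvd_prod_of_mem a hmem) (haP P0 hmem)
        have hPq : P.comap (algebraMap A R) ≤ q :=
          (Ideal.comap_mono (IsLocalRing.le_maximalIdeal hP.ne_top)).trans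
            (IsLocalization.AtPrime.under_maximalIdeal R q).le
        exact hq (q.mul_mem_left _ (hPq (hP0le hbP0)))
    have hdim : ringKrullDim R ≤ ringKrullDim (R ⧸ J) := by
      rw [ringKrullDim_quotient]
      let φ : PrimeSpectrum R → PrimeSpectrum.zeroLocus (J : Set R) := fun P =>
        ⟨P, fun x hx => (P.2.radical_le_iff.2 bot_le) (hJ hx)⟩
      exact Order.krullDim_le_of_strictMono φ fun P P' h => h
    obtain ⟨d, hd⟩ := ENat.ne_top_iff_exists.mp (Depth.Assoc.depth_ne_top (R := R ⧸ J) (R ⧸ J))
    have h1 : (d : ℕ∞) ≤ LocCoh.depth R (R ⊗[A] (A ⧸ p)) := by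
      rw [← Depth.Basic.depth_congr
        (Algebra.TensorProduct.quotIdealMapEquivTensorQuot R p).toLinearEquiv,
        Depth.CM.depth_quotient_eq, ← hd]
    have h2 := hdep q (fun h => hq (q.mul_mem_right _ (q.mul_mem_right _ h))) d h1
    rw [Depth.Basic.depth_congr (TensorProduct.AlgebraTensorModule.rid A R R)] at h2
    refine Depth.CM.isCohenMacaulayLocalRing_iff.2 (hdim.trans ?_)
    rw [Depth.CM.ringKrullDim_eq_depth, ← hd]
    exact WithBot.coe_le_coe.2 h2
  | succ r ih =>
    intro A _ _ p _ hr hp g hg hCM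
    let R := Localization.AtPrime p
    haveI : IsNoetherianRing R := IsLocalization.isNoetherianRing p.primeCompl _ inferInstance
    haveI := hp
    have hdepth : LocCoh.depth R R = (r + 1 : ℕ) := by
      have := Depth.CM.ringKrullDim_eq_depth (R := R)
      rw [IsLocalization.AtPrime.ringKrullDim_eq_height p R, hr] at this
      exact (WithBot.coe_injective this).symm
    obtain ⟨y, hy, hyreg, -, -⟩ := Depth.Local.exists_regular_of_idealDepth_eq_succ hdepth
    obtain ⟨x, s, rfl⟩ := IsLocalization.exists_mk'_eq p.primeCompl y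
    have hxp : x ∈ p := (IsLocalization.AtPrime.mk'_mem_maximal_iff R p x s).1 hy
    have hxreg : IsSMulRegular R (algebraMap A R x) := by
      rw [← IsLocalization.mk'_spec R x s]
      exact hyreg.mul ((IsLocalization.map_units R s).isSMulRegular R)
    -- spread regularity
    obtain ⟨t, ht, htker⟩ : ∃ t : A, t ∉ p ∧ ∀ z : A, x * z = 0 → t * z = 0 := by
      classical
      let N : Ideal A := LinearMap.ker (LinearMap.mulLeft A x)
      obtain ⟨S, hS⟩ := IsNoetherian.noetherian N
      have hex : ∀ z ∈ N, ∃ u : p.primeCompl, (u : A) * z = 0 := fun z hz => by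
        have hz' : algebraMap A R z = 0 := by
          refine hxreg ?_
          simp only [smul_eq_mul, mul_zero]
          rw [← map_mul, show x * z = 0 from hz, map_zero]
        exact (IsLocalization.map_eq_zero_iff p.primeCompl R z).1 hz'
      choose! u hu using hex
      refine ⟨∏ z ∈ S, (u z : A), prod_mem (S := p.primeCompl) fun z _ => (u z).2, fun z hz => ?_⟩
      have hzN : z ∈ Submodule.span A (S : Set A) := hS.symm ▸ (show z ∈ N from hz)
      clear hz
      induction hzN using Submodule.span_induction with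
      | mem w hw =>
        rw [← Finset.prod_erase_mul S _ hw, mul_assoc, hu w (hS ▸ Submodule.subset_span hw), mul_zero]
      | zero => rw [mul_zero]
      | add a b _ _ iha ihb => rw [mul_add, iha, ihb, add_zero]
      | smul c w _ ihw => rw [smul_eq_mul, mul_left_comm, ihw, mul_zero]
    have hreg : ∀ (q : Ideal A) [q.IsPrime], t ∉ q →
        IsSMulRegular (Localization.AtPrime q) (algebraMap A (Localization.AtPrime q) x) := by
      intro q _ htq
      refine IsSMulRegular.of_right_eq_zero_of_smul fun z hz => ?_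
      obtain ⟨a, b, rfl⟩ := IsLocalization.exists_mk'_eq q.primeCompl z
      rw [smul_eq_mul, IsLocalization.mul_mk'_eq_mk'_of_mul, IsLocalization.mk'_eq_zero_iff] at hz
      obtain ⟨v, hv⟩ := hz
      rw [IsLocalization.mk'_eq_zero_iff]
      refine ⟨⟨t * v, q.primeCompl.mul_mem htq v.2⟩, ?_⟩
      rw [mul_assoc]
      exact htker _ (by rw [← hv]; ring)
    let A' := A ⧸ Ideal.span {x}
    let p' := p.map (Ideal.Quotient.mk (Ideal.span {x}))
    have hxle : Ideal.span {x} ≤ p := (Ideal.span_singleton_le_iff_mem _).2 hxp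
    haveI : p'.IsPrime := Ideal.map_isPrime_of_surjective Ideal.Quotient.mk_surjective (by rwa [Ideal.mk_ker])
    have hp' : p'.comap (Ideal.Quotient.mk (Ideal.span {x})) = p := by
      rw [Ideal.comap_map_of_surjective _ Ideal.Quotient.mk_surjective, ← RingHom.ker_eq_comap_bot,
        Ideal.mk_ker, sup_eq_left.2 hxle]
    have hmap : ∀ (q : Ideal A) [q.IsPrime], (Ideal.span {x}).map (algebraMap A (Localization.AtPrime q)) =
        Ideal.span {algebraMap A (Localization.AtPrime q) x} := fun q _ => by
      rw [Ideal.map_span, Set.image_singleton]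
    obtain ⟨e⟩ := nonempty_quotientEquiv A (Ideal.span {x}) p' p hp'
    let e1 := e.trans (Ideal.quotEquivOfEq (hmap p))
    haveI : IsLocalRing (R ⧸ Ideal.span {algebraMap A R x}) := e1.isLocalRing
    have hxm : algebraMap A R x ∈ maximalIdeal R :=
      fun hu => (IsLocalization.AtPrime.isUnit_to_map_iff R p x).1 hu hxp
    have hp'CM : LocCoh.IsCohenMacaulayLocalRing (Localization.AtPrime p') :=
      CM.isoInvariant _ _ e1.symm ((Depth.CM.isCohenMacaulayLocalRing_quotient_span_singleton_iff
        hxm hxreg).2 hp)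
    have hp'ht : p'.height = r := by
      haveI := hp'CM
      have h1 := Depth.CM.ringKrullDim_eq_depth (R := Localization.AtPrime p')
      rw [IsLocalization.AtPrime.ringKrullDim_eq_height p', Groth.Agent.Lib.Goren.Flat.depth_ringEquiv e1] at h1
      have h2 := DepthFlat.depth_quotient_add_one hxm hxreg
      rw [hdepth, Nat.cast_succ] at h2
      rw [WithBot.coe_injective h1]
      exact ENat.add_left_injective_of_ne_top ENat.one_ne_top (a₁ := _) (a₂ := (r : ℕ∞)) h2
    let e2 : A' ⧸ p' ≃+* A ⧸ p := DoubleQuot.quotQuotEquivQuotOfLE hxle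
    obtain ⟨f', hf', hf'CM⟩ := ih A' p' hp'ht hp'CM (Ideal.Quotient.mk _ g)
      (fun h => hg (hp' ▸ (h : g ∈ p'.comap (Ideal.Quotient.mk (Ideal.span {x}))))) (fun Qb _ hQb => by
        let Qc := Qb.comap e2.symm.toRingHom
        haveI : Qc.IsPrime := Ideal.IsPrime.comap _
        refine CM.isoInvariant (Localization.AtPrime Qc) (Localization.AtPrime Qb)
          (Localization.localRingEquiv Qc Qb e2.symm rfl) (hCM Qc fun h => hQb ?_)
        exact h)
    obtain ⟨f, rfl⟩ := Ideal.Quotient.mk_surjective f'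
    refine ⟨f * t, fun h => ((‹p.IsPrime›).mem_or_mem h).elim (fun h' => hf' (Ideal.mem_map_of_mem _ h')) ht,
      fun q _ hpq hq => ?_⟩
    let Q' := q.map (Ideal.Quotient.mk (Ideal.span {x}))
    haveI : Q'.IsPrime := Ideal.map_isPrime_of_surjective Ideal.Quotient.mk_surjective
      (by rw [Ideal.mk_ker]; exact hxle.trans hpq)
    have hQ' : Q'.comap (Ideal.Quotient.mk (Ideal.span {x})) = q := by
      rw [Ideal.comap_map_of_surjective _ Ideal.Quotient.mk_surjective, ← RingHom.ker_eq_comap_bot,
        Ideal.mk_ker, sup_eq_left.2 (hxle.trans hpq)]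
    obtain ⟨e3⟩ := nonempty_quotientEquiv A (Ideal.span {x}) Q' q hQ'
    let e4 := e3.trans (Ideal.quotEquivOfEq (hmap q))
    haveI : IsNoetherianRing (Localization.AtPrime q) :=
      IsLocalization.isNoetherianRing q.primeCompl _ inferInstance
    haveI : IsLocalRing (Localization.AtPrime q ⧸ Ideal.span {algebraMap A (Localization.AtPrime q) x}) :=
      e4.isLocalRing
    refine (Depth.CM.isCohenMacaulayLocalRing_quotient_span_singleton_iff
      (fun hu => (IsLocalization.AtPrime.isUnit_to_map_iff (Localization.AtPrime q) q x).1 hu (hpq hxp))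
      (hreg q fun h => hq (q.mul_mem_left _ h))).1 (CM.isoInvariant _ _ e4 ?_)
    exact hf'CM Q' (Ideal.map_mono hpq) fun h => hq (q.mul_mem_right _
      (hQ' ▸ (h : f ∈ Q'.comap (Ideal.Quotient.mk (Ideal.span {x})))))

/-- Nagata's criterion for the Cohen-Macaulay locus. -/
theorem isOpen_of_quotients (A : Type u) [CommRing A] [IsNoetherianRing A]
    (h : ∀ (p : Ideal A) [p.IsPrime], LocCoh.IsCohenMacaulayLocalRing (Localization.AtPrime p) →
      ∃ g : A, g ∉ p ∧ ∀ (Qb : Ideal (A ⧸ p)) [Qb.IsPrime], Ideal.Quotient.mk p g ∉ Qb →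
        LocCoh.IsCohenMacaulayLocalRing (Localization.AtPrime Qb)) :
    IsOpen {p : PrimeSpectrum A | LocCoh.IsCohenMacaulayLocalRing (Localization.AtPrime p.asIdeal)} := by
  refine RegLocus.isOpen_of_generization_nhds _ (fun p q hle hp => ?_) fun p hp => ?_
  · haveI : LocCoh.IsCohenMacaulayLocalRing (Localization.AtPrime p.asIdeal) := hp
    exact (FormalFibre.forall_localization_iff (S' := Localization.AtPrime p.asIdeal)
      (P := fun R [CommRing R] => LocCoh.IsCohenMacaulayLocalRing R) p.asIdeal.primeCompl CM.isoInvariant).1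
      (fun Q _ => Depth.CM.isCohenMacaulayLocalRing_localization Q) q.asIdeal
      (Set.disjoint_left.2 fun x hx hxq => hx (hle hxq))
  · obtain ⟨g, hg, hgCM⟩ := h p.asIdeal hp
    have hfin : p.asIdeal.height ≠ ⊤ := Ideal.height_ne_top p.2.ne_top
    obtain ⟨r, hr⟩ := ENat.ne_top_iff_exists.mp hfin
    obtain ⟨f, hf, hfCM⟩ := exists_nhd r A p.asIdeal hr.symm hp g hg hgCM
    exact ⟨PrimeSpectrum.basicOpen f, (PrimeSpectrum.basicOpen f).isOpen, hf,
      fun q ⟨hqf, hqp⟩ => hfCM q.asIdeal hqp hqf⟩

end Groth.Agent.Lib.EGA75.CMLocus
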