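import Groth.Agent.Lib.EGA75.Codepth

/-!
# Openness of the `(Sₙ)` locus over quotients of regular rings
-/

set_option autoImplicit false
set_option linter.style.haveILetI false

universe u

open IsLocalRing
open Groth.Agent.Lib

namespace Groth.Agent.Lib.EGA75.SnLocus

variable {A : Type u} [CommRing A] (M : Type u) [AddCommGroup M] [Module A M]

/-- `(Sₙ)` at `p` in terms of the generizations of `p`. -/
theorem hasSkAt_iff (n : ℕ) (p : PrimeSpectrum A) :
    EGA4.HasSkAt n A M p.asIdeal ↔ ∀ q : PrimeSpectrum A, q ≤ p →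
      min (n : WithBot ℕ∞) (Module.supportDim (Localization.AtPrime q.asIdeal)
          (LocalizedModule q.asIdeal.primeCompl M)) ≤
        ((LocCoh.depth (Localization.AtPrime q.asIdeal)
          (LocalizedModule q.asIdeal.primeCompl M) : ℕ∞) : WithBot ℕ∞) := by
  let e := IsLocalization.AtPrime.primeSpectrumOrderIso (Localization.AtPrime p.asIdeal) p.asIdeal
  constructor
  · intro h q hqp
    obtain ⟨q', rfl⟩ : ∃ q' : PrimeSpectrum (Localization.AtPrime p.asIdeal),
        PrimeSpectrum.comap (algebraMap A (Localization.AtPrime p.asIdeal)) q' = q :=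
      ⟨e.symm ⟨q, hqp⟩, congrArg (fun z : Set.Iic p => z.1) (e.apply_symm_apply ⟨q, hqp⟩)⟩
    obtain ⟨h1, h2⟩ := DMod.LocLoc.depth_supportDim_eq p M q'
    have := h q'.asIdeal
    rw [h1, h2] at this
    exact this
  · intro h q' hq'
    obtain ⟨h1, h2⟩ := DMod.LocLoc.depth_supportDim_eq p M ⟨q', hq'⟩
    have := h _ (e ⟨q', hq'⟩).2
    rw [h1, h2]
    exact this

/-- The support dimension grows along specializations. -/
theorem supportDim_mono {q₀ q : PrimeSpectrum A} (h : q₀ ≤ q) :
    Module.supportDim (Localization.AtPrime q₀.asIdeal) (LocalizedModule q₀.asIdeal.primeCompl M) ≤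
      Module.supportDim (Localization.AtPrime q.asIdeal) (LocalizedModule q.asIdeal.primeCompl M) := by
  rw [DMod.SupportDim.supportDim_localized, DMod.SupportDim.supportDim_localized]
  exact Order.krullDim_le_of_strictMono (fun x => ⟨x.1, x.2.1, x.2.2.trans h⟩) fun a b hab => hab

variable [IsNoetherianRing A] [Module.Finite A M]

theorem cases (q : PrimeSpectrum A) :
    Module.supportDim (Localization.AtPrime q.asIdeal) (LocalizedModule q.asIdeal.primeCompl M) = ⊥ ∨
      ∃ d j : ℕ,
        Module.supportDim (Localization.AtPrime q.asIdeal) (LocalizedModule q.asIdeal.primeCompl M) =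
          ((d : ℕ∞) : WithBot ℕ∞) ∧
        LocCoh.depth (Localization.AtPrime q.asIdeal) (LocalizedModule q.asIdeal.primeCompl M) = (j : ℕ∞) := by
  let L := Localization.AtPrime q.asIdeal
  let N := LocalizedModule q.asIdeal.primeCompl M
  haveI : IsNoetherianRing L := IsLocalization.isNoetherianRing q.asIdeal.primeCompl L inferInstance
  haveI : Module.Finite L N := Module.Finite.of_isLocalizedModule q.asIdeal.primeCompl
    (LocalizedModule.mkLinearMap q.asIdeal.primeCompl M)
  rcases subsingleton_or_nontrivial N with hM | hM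
  · exact Or.inl (Module.supportDim_eq_bot_of_subsingleton _ _)
  · obtain ⟨d, hd⟩ := Depth.CM.supportDim_eq_nat (R := L) N
    obtain ⟨j, hj⟩ := ENat.ne_top_iff_exists.1 (Depth.Assoc.depth_ne_top (R := L) N)
    exact Or.inr ⟨d, j, hd, hj.symm⟩

/-- If the loci of bounded codepth are open, so is the `(Sₙ)` locus. -/
theorem isOpen_hasSkAt (n : ℕ)
    (hU : ∀ i : ℕ, IsOpen {p : PrimeSpectrum A |
      Module.supportDim (Localization.AtPrime p.asIdeal) (LocalizedModule p.asIdeal.primeCompl M) ≤
        ((LocCoh.depth (Localization.AtPrime p.asIdeal) (LocalizedModule p.asIdeal.primeCompl M) : ℕ∞) :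
          WithBot ℕ∞) + i}) :
    IsOpen {p : PrimeSpectrum A | EGA4.HasSkAt n A M p.asIdeal} := by
  let U : ℕ → Set (PrimeSpectrum A) := fun i => {p : PrimeSpectrum A |
      Module.supportDim (Localization.AtPrime p.asIdeal) (LocalizedModule p.asIdeal.primeCompl M) ≤
        ((LocCoh.depth (Localization.AtPrime p.asIdeal) (LocalizedModule p.asIdeal.primeCompl M) : ℕ∞) :
          WithBot ℕ∞) + i}
  let sd : PrimeSpectrum A → WithBot ℕ∞ := fun q =>
    Module.supportDim (Localization.AtPrime q.asIdeal) (LocalizedModule q.asIdeal.primeCompl M)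
  let dp : PrimeSpectrum A → ℕ∞ := fun q =>
    LocCoh.depth (Localization.AtPrime q.asIdeal) (LocalizedModule q.asIdeal.primeCompl M)
  let bad : Set (PrimeSpectrum A) := {q | ¬ min (n : WithBot ℕ∞) (sd q) ≤ (dp q : WithBot ℕ∞)}
  have hmemU : ∀ q i, q ∈ U i ↔ sd q ≤ (dp q : WithBot ℕ∞) + i := fun _ _ => Iff.rfl
  have hmonoU : ∀ a b, a ≤ b → U a ⊆ U b := fun a b hab q hq =>
    (hmemU q b).2 (((hmemU q a).1 hq).trans (add_le_add le_rfl (by exact_mod_cast hab)))
  have hI : ∀ i, ∃ I : Ideal A, (U i)ᶜ = PrimeSpectrum.zeroLocus (I : Set A) := fun i =>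
    (PrimeSpectrum.isClosed_iff_zeroLocus_ideal _).1 (hU i).isClosed_compl
  choose I hI using hI
  obtain ⟨N, hN⟩ : ∃ N, Set.univ ⊆ U N := by
    refine isCompact_univ.elim_directed_cover U hU (fun q _ => ?_) ?_
    · refine Set.mem_iUnion.2 ?_
      rcases cases M q with hb | ⟨d, j, hd, hj⟩
      · exact ⟨0, (hmemU q 0).2 (by simp only [sd]; rw [hb]; exact bot_le)⟩
      · refine ⟨d, ?_⟩
        rw [hmemU]
        simp only [sd, dp]
        rw [hd, hj]
        norm_cast
        omega
    · intro a b
      exact ⟨max a b, hmonoU _ _ (le_max_left a b), hmonoU _ _ (le_max_right a b)⟩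
  let G : Set (PrimeSpectrum A) :=
    {g | g ∈ bad ∧ ∃ i : Fin N, g.asIdeal ∈ (I i).minimalPrimes}
  have hG : G.Finite := by
    refine Set.Finite.subset (Set.finite_iUnion fun i : Fin N =>
      (Ideal.finite_minimalPrimes_of_isNoetherianRing A (I i)).preimage
        (f := PrimeSpectrum.asIdeal) fun x _ y _ h => PrimeSpectrum.ext h) fun g hg => ?_
    exact Set.mem_iUnion.2 hg.2
  have hset : {p : PrimeSpectrum A | EGA4.HasSkAt n A M p.asIdeal}ᶜ =
      ⋃ g ∈ G, PrimeSpectrum.zeroLocus (g.asIdeal : Set A) := by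
    ext p
    rw [Set.mem_compl_iff, Set.mem_ofPred_eq, hasSkAt_iff, Set.mem_iUnion₂]
    constructor
    · intro h
      push Not at h
      obtain ⟨q, hqp, hq⟩ := h
      rcases cases M q with hb | ⟨d, j, hd, hj⟩
      · rw [hb] at hq
        exact absurd hq (not_lt.2 ((min_le_right _ _).trans bot_le))
      rw [hd, hj] at hq
      norm_cast at hq
      obtain ⟨hn, hjd⟩ : j < n ∧ j < d := by
        constructor <;> by_contra hh
        · exact hq.not_ge ((min_le_left _ _).trans (by exact_mod_cast not_lt.1 hh))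
        · exact hq.not_ge ((min_le_right _ _).trans (by exact_mod_cast not_lt.1 hh))
      have hqU : q ∉ U (d - j - 1) := by
        intro hmem
        rw [hmemU] at hmem
        simp only [sd, dp] at hmem
        rw [hd, hj] at hmem
        generalize hk : d - j - 1 = k at hmem
        norm_cast at hmem
        omega
      have hlt : d - j - 1 < N := by
        by_contra hh
        exact hqU (hmonoU _ _ (not_lt.1 hh) (hN (Set.mem_univ q)))
      have hqI : q ∈ PrimeSpectrum.zeroLocus (I (d - j - 1) : Set A) := hI _ ▸ hqU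
      obtain ⟨g, hg, hgq⟩ := Ideal.exists_minimalPrimes_le (J := q.asIdeal) hqI
      let g' : PrimeSpectrum A := ⟨g, hg.1.1⟩
      have hgU : g' ∉ U (d - j - 1) := by
        change g' ∈ (U (d - j - 1))ᶜ
        rw [hI]
        exact hg.1.2
      refine ⟨g', ⟨?_, ⟨d - j - 1, hlt⟩, hg⟩, hgq.trans hqp⟩
      have hmono := supportDim_mono M (show g' ≤ q from hgq)
      rw [hmemU] at hgU
      simp only [sd, dp] at hgU
      rcases cases M g' with hb | ⟨d', j', hd', hj'⟩
      · rw [hb] at hgU
        exact absurd bot_le hgU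
      change ¬ min _ (Module.supportDim _ _) ≤ ((LocCoh.depth _ _ : ℕ∞) : WithBot ℕ∞)
      rw [hd', hd] at hmono
      rw [hd', hj'] at hgU ⊢
      generalize hk : d - j - 1 = k at hgU
      norm_cast at hgU hmono
      refine not_le.2 (lt_min ?_ ?_) <;> norm_cast <;> omega
    · rintro ⟨g, hg, hgp⟩ h
      exact hg.1 (h g hgp)
  rw [← isClosed_compl_iff, hset]
  exact hG.isClosed_biUnion fun g _ => PrimeSpectrum.isClosed_zeroLocus _

end Groth.Agent.Lib.EGA75.SnLocus
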