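import Groth.Agent.Lib.EGA75.Complete
import Groth.Agent.Lib.Unram.SmoothCompletion
import Groth.Agent.H24.CompletionFlat
import Groth.Agent.S4696
import Groth.Agent.S2610
import Groth.Agent.Lib.Regular.Descent

/-!
# EGA IV 7.5.4: reduction to the complete case
-/

set_option autoImplicit false
set_option linter.style.haveILetI false

universe u

open IsLocalRing
open scoped TensorProduct
open Groth.Agent.Lib.Excellent

namespace Groth.Agent.Lib.EGA75.Reduction

/-- Over a field on which the completion acts through the residue field, tensor products over the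
completion are tensor products over the ring. -/
theorem compatibleSMul (A A' L C : Type u) [CommRing A] [CommRing A'] [Field L] [CommRing C]
    [Algebra A A'] [Algebra A' L] [Algebra A L] [IsScalarTower A A' L] [Algebra A' C] [Algebra A C]
    [IsScalarTower A A' C] (m : Ideal A) (hm : m ≤ RingHom.ker (algebraMap A L))
    (hsurj : ∀ a : A', ∃ a0 : A, a - algebraMap A A' a0 ∈ m.map (algebraMap A A')) :
    TensorProduct.CompatibleSMul A A' L C := by
  have hzero : ∀ j ∈ m.map (algebraMap A A'), algebraMap A' L j = 0 ∧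
      ∀ (l : L) (c : C), l ⊗ₜ[A] (j • c) = 0 := by
    intro j hj
    refine Submodule.span_induction ?_ ?_ ?_ ?_ hj
    · rintro _ ⟨r, hr, rfl⟩
      have hr0 : algebraMap A L r = 0 := RingHom.mem_ker.1 (hm hr)
      refine ⟨by rw [← IsScalarTower.algebraMap_apply, hr0], fun l c => ?_⟩
      rw [algebraMap_smul, ← TensorProduct.smul_tmul, Algebra.smul_def, hr0, zero_mul,
        TensorProduct.zero_tmul]
    · simp
    · intro y z _ _ hy hz
      refine ⟨by rw [map_add, hy.1, hz.1, add_zero], fun l c => ?_⟩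
      rw [add_smul, TensorProduct.tmul_add, hy.2, hz.2, add_zero]
    · intro s y _ hy
      refine ⟨by rw [smul_eq_mul, map_mul, hy.1, mul_zero], fun l c => ?_⟩
      rw [smul_eq_mul, mul_comm, mul_smul, hy.2]
  refine ⟨fun a l c => ?_⟩
  obtain ⟨a0, ha0⟩ := hsurj a
  obtain ⟨h1, h2⟩ := hzero _ ha0
  have ha : a = (a - algebraMap A A' a0) + algebraMap A A' a0 := (sub_add_cancel _ _).symm
  rw [ha, add_smul, add_smul, TensorProduct.tmul_add, TensorProduct.add_tmul, h2,
    Algebra.smul_def (a - algebraMap A A' a0) l, h1, zero_mul, TensorProduct.zero_tmul, algebraMap_smul,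
    algebraMap_smul, TensorProduct.smul_tmul]

/-- The reduction to the completions. -/
theorem finPoint_completion {P : ∀ (S : Type u) [CommRing S], Prop} (hP : Main.LiftProp P)
    (A B : Type u) [CommRing A] [CommRing B] [IsNoetherianRing A] [IsNoetherianRing B] [IsLocalRing A]
    [IsLocalRing B] [Algebra A B] [IsLocalHom (algebraMap A B)] [Module.Flat A B]
    [Module.Finite A (B ⧸ maximalIdeal B)]
    (h : ∀ (L : Type u) [Field L] [Algebra A L] [Module.Finite A L]
      (Q : Ideal (L ⊗[A] EGA4.Cpl B)) [Q.IsPrime], P (Localization.AtPrime Q)) :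
    ∃ (_ : Algebra (EGA4.Cpl A) (EGA4.Cpl B)),
      IsScalarTower A (EGA4.Cpl A) (EGA4.Cpl B) ∧ Module.Flat (EGA4.Cpl A) (EGA4.Cpl B) ∧
      ∀ (K : Type u) [Field K] [Algebra (EGA4.Cpl A) K], FormalFibre.IsFinPoint (EGA4.Cpl A) K →
        ∀ (Q : Ideal (K ⊗[EGA4.Cpl A] EGA4.Cpl B)) [Q.IsPrime], P (Localization.AtPrime Q) := by
  obtain ⟨ψ, hψ⟩ := Unram.SmoothCompletion.exists_map (A := A) (B := B)
  letI := ψ.toAlgebra
  haveI hst : IsScalarTower A (EGA4.Cpl A) (EGA4.Cpl B) :=
    IsScalarTower.of_algebraMap_eq' (by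
      rw [IsScalarTower.algebraMap_eq A B (EGA4.Cpl B)]
      exact hψ.symm)
  haveI : IsAdicComplete (maximalIdeal (EGA4.Cpl A)) (EGA4.Cpl A) := inferInstance
  have hmap : (maximalIdeal (EGA4.Cpl A)).map (algebraMap (EGA4.Cpl A) (EGA4.Cpl B)) ≤
      maximalIdeal (EGA4.Cpl B) := by
    rw [AdicCompletion.maximalIdeal_eq_map, AdicCompletion.maximalIdeal_eq_map, Ideal.map_map,
      ← IsScalarTower.algebraMap_eq A (EGA4.Cpl A), IsScalarTower.algebraMap_eq A B (EGA4.Cpl B),
      ← Ideal.map_map]
    exact Ideal.map_mono (map_maximalIdeal_le _)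
  haveI : IsLocalHom (algebraMap (EGA4.Cpl A) (EGA4.Cpl B)) :=
    ((IsLocalRing.local_hom_TFAE _).out 0 2 rfl rfl).mpr hmap
  haveI : Module.Flat (EGA4.Cpl A) (EGA4.Cpl B) := Groth.Agent.H24.CompletionFlat.flat_completion A B
  haveI : Module.Finite (EGA4.Cpl A) (EGA4.Cpl B ⧸ maximalIdeal (EGA4.Cpl B)) := by
    let g : (B ⧸ maximalIdeal B) →ₐ[A] EGA4.Cpl B ⧸ maximalIdeal (EGA4.Cpl B) :=
      Ideal.Quotient.liftₐ _ ((Ideal.Quotient.mkₐ A (maximalIdeal (EGA4.Cpl B))).comp
        (IsScalarTower.toAlgHom A B (EGA4.Cpl B))) fun b hb => by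
          refine Ideal.Quotient.eq_zero_iff_mem.2 ?_
          rw [AdicCompletion.maximalIdeal_eq_map]
          exact Ideal.mem_map_of_mem _ hb
    haveI : Module.Finite A (EGA4.Cpl B ⧸ maximalIdeal (EGA4.Cpl B)) := by
      refine Module.Finite.of_surjective g.toLinearMap fun z => ?_
      obtain ⟨z, hz⟩ := (AdicCompletion.residueField_map_bijective B).2 z
      obtain ⟨z, rfl⟩ := IsLocalRing.residue_surjective z
      refine ⟨Ideal.Quotient.mk _ z, ?_⟩
      rw [← hz, IsLocalRing.ResidueField.map_residue]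
      rfl
    exact Module.Finite.of_restrictScalars_finite A _ _
  refine ⟨‹_›, hst, ‹_›, fun K _ _ hK Q _ => Main.fibres hP (EGA4.Cpl A) (EGA4.Cpl B) ?_ K hK Q⟩
  intro L _ _ _
  letI : Algebra A L := ((algebraMap (EGA4.Cpl A) L).comp (algebraMap A (EGA4.Cpl A))).toAlgebra
  haveI : IsScalarTower A (EGA4.Cpl A) L := .of_algebraMap_eq' rfl
  have hm : maximalIdeal A ≤ RingHom.ker (algebraMap A L) := by
    intro a ha
    haveI : Algebra.IsIntegral (EGA4.Cpl A) L := inferInstance
    haveI : ((⊥ : Ideal L).comap (algebraMap (EGA4.Cpl A) L)).IsMaximal := by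
      haveI : (⊥ : Ideal L).IsMaximal := Ideal.bot_isMaximal
      exact Ideal.isMaximal_comap_of_isIntegral_of_isMaximal ⊥
    have hmem : algebraMap A (EGA4.Cpl A) a ∈ maximalIdeal (EGA4.Cpl A) := by
      rw [AdicCompletion.maximalIdeal_eq_map]
      exact Ideal.mem_map_of_mem _ ha
    rw [← IsLocalRing.eq_maximalIdeal ‹((⊥ : Ideal L).comap (algebraMap (EGA4.Cpl A) L)).IsMaximal›] at hmem
    exact RingHom.mem_ker.2 (Ideal.mem_bot.1 hmem)
  have hsurj : ∀ a : EGA4.Cpl A, ∃ a0 : A,
      a - algebraMap A (EGA4.Cpl A) a0 ∈ (maximalIdeal A).map (algebraMap A (EGA4.Cpl A)) := by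
    intro a
    obtain ⟨z, hz⟩ := (AdicCompletion.residueField_map_bijective A).2 (IsLocalRing.residue _ a)
    obtain ⟨z, rfl⟩ := IsLocalRing.residue_surjective z
    refine ⟨z, ?_⟩
    rw [← AdicCompletion.maximalIdeal_eq_map, ← IsLocalRing.residue_eq_zero_iff, map_sub, ← hz,
      IsLocalRing.ResidueField.map_residue, sub_self]
  haveI := compatibleSMul A (EGA4.Cpl A) L (EGA4.Cpl B) (maximalIdeal A) hm hsurj
  haveI : Module.Finite A L := by
    let g : A →ₐ[A] EGA4.Cpl A := Algebra.ofId A _
    obtain ⟨s, hs⟩ := (Module.Finite.fg_top : (⊤ : Submodule (EGA4.Cpl A) L).FG)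
    refine ⟨⟨s, top_le_iff.1 fun z _ => ?_⟩⟩
    have hz : z ∈ Submodule.span (EGA4.Cpl A) (s : Set L) := hs ▸ Submodule.mem_top
    refine Submodule.span_induction (fun x hx => Submodule.subset_span hx) (zero_mem _)
      (fun x y _ _ hx hy => add_mem hx hy) (fun a x _ hx => ?_) hz
    obtain ⟨a0, ha0⟩ := hsurj a
    have h0 : algebraMap (EGA4.Cpl A) L (a - algebraMap A (EGA4.Cpl A) a0) = 0 := by
      refine RingHom.mem_ker.1 ((Ideal.map_le_iff_le_comap.2 ?_) ha0)
      intro r hr
      rw [Ideal.mem_comap, RingHom.mem_ker, ← IsScalarTower.algebraMap_apply]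
      exact RingHom.mem_ker.1 (hm hr)
    rw [map_sub, sub_eq_zero, ← IsScalarTower.algebraMap_apply] at h0
    rw [Algebra.smul_def, h0, ← Algebra.smul_def]
    exact Submodule.smul_mem _ _ hx
  intro Q _
  exact Transport.forall_atPrime_congr hP.iso
    (Algebra.TensorProduct.equivOfCompatibleSMul (EGA4.Cpl A) A L L (EGA4.Cpl B)).toRingEquiv
    (fun q _ => h L q) Q

/-- Descent from the fibres over the completion of the target. -/
theorem descend {Q : ∀ (S : Type u) [CommRing S], Prop} (hQ : FormalFibre.IsoInvariant.{u} Q)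
    (desc : ∀ (R S : Type u) [CommRing R] [CommRing S] [IsNoetherianRing R] [IsNoetherianRing S]
      [Algebra R S] [Module.FaithfullyFlat R S], Q S → Q R)
    (A B C : Type u) [CommRing A] [CommRing B] [CommRing C] [IsNoetherianRing B] [IsNoetherianRing C]
    [Algebra A B] [Algebra A C] [Algebra B C] [IsScalarTower A B C] [Module.FaithfullyFlat B C]
    (K : Type u) [Field K] [Algebra A K] (hK : FormalFibre.IsFinPoint A K)
    (h : Q (K ⊗[A] C)) : Q (K ⊗[A] B) := by
  haveI := Complete.isNoetherianRing_finPoint A B K hK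
  haveI : IsNoetherianRing (B ⊗[A] K) :=
    isNoetherianRing_of_ringEquiv (K ⊗[A] B) (Algebra.TensorProduct.comm A K B).toRingEquiv
  let e : (B ⊗[A] K) ⊗[B] C ≃+* K ⊗[A] C :=
    (Algebra.TensorProduct.comm B (B ⊗[A] K) C).toRingEquiv.trans
      ((Algebra.TensorProduct.cancelBaseChange A B C C K).toRingEquiv.trans
        (Algebra.TensorProduct.comm A C K).toRingEquiv)
  haveI := Complete.isNoetherianRing_finPoint A C K hK
  haveI : IsNoetherianRing ((B ⊗[A] K) ⊗[B] C) := isNoetherianRing_of_ringEquiv (K ⊗[A] C) e.symm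
  exact hQ _ _ (Algebra.TensorProduct.comm A B K).toRingEquiv
    (desc (B ⊗[A] K) ((B ⊗[A] K) ⊗[B] C) (hQ _ _ e.symm h))

/-- Normality descends along faithfully flat maps. -/
theorem isNormalRing_descent (R S : Type u) [CommRing R] [CommRing S] [IsNoetherianRing R]
    [IsNoetherianRing S] [Algebra R S] [Module.FaithfullyFlat R S] (h : EGA4.IsNormalRing S) :
    EGA4.IsNormalRing R :=
  NormalFibres.isNormalRing_of_faithfullyFlat R S fun q _ => by
    haveI := (h q).1
    haveI := (h q).2
    exact Groth.Agent.S2610.result R S q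

/-- Regularity descends along faithfully flat maps. -/
theorem isRegularRing_descent (R S : Type u) [CommRing R] [CommRing S] [IsNoetherianRing R]
    [IsNoetherianRing S] [Algebra R S] [Module.FaithfullyFlat R S] (h : IsRegularRing S) :
    IsRegularRing R := by
  refine isRegularRing_iff.2 fun p _ => ?_
  obtain ⟨q, hq⟩ := PrimeSpectrum.comap_surjective_of_faithfullyFlat (A := R) (B := S) ⟨p, ‹_›⟩
  have e : q.asIdeal.comap (algebraMap R S) = p := congrArg PrimeSpectrum.asIdeal hq
  subst e
  let p := q.asIdeal.comap (algebraMap R S)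
  letI : Algebra (Localization.AtPrime p) (Localization.AtPrime q.asIdeal) :=
    (Localization.localRingHom p q.asIdeal (algebraMap R S) rfl).toAlgebra
  haveI : IsScalarTower R (Localization.AtPrime p) (Localization.AtPrime q.asIdeal) :=
    .of_algebraMap_eq fun x => by
      rw [RingHom.algebraMap_toAlgebra, Localization.localRingHom_to_map,
        IsScalarTower.algebraMap_apply R S (Localization.AtPrime q.asIdeal)]
  haveI : IsLocalHom (algebraMap (Localization.AtPrime p) (Localization.AtPrime q.asIdeal)) :=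
    Localization.isLocalHom_localRingHom _ _ _ rfl
  haveI : Module.Flat R (Localization.AtPrime q.asIdeal) := Module.Flat.trans R S _
  haveI : Module.Flat (Localization.AtPrime p) (Localization.AtPrime q.asIdeal) :=
    (Module.flat_iff_of_isLocalization (Localization.AtPrime p) p.primeCompl _).2 ‹_›
  haveI := IsRegularRing.isRegularLocalRing_localization q.asIdeal
  exact Groth.Agent.Lib.Regular.Descent.isRegularLocalRing_of_flat (Localization.AtPrime q.asIdeal)

end Groth.Agent.Lib.EGA75.Reduction
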