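import Groth.Prelude.Def_EGA4b
import Mathlib.RingTheory.Regular.RegularSequence
import Mathlib.RingTheory.Filtration
import Mathlib.RingTheory.Flat.Basic
import Mathlib.RingTheory.LocalRing.Module

/-!
# Regular sequences on the associated graded module
-/

set_option autoImplicit false
set_option linter.style.haveILetI false

universe u v

open IsLocalRing RingTheory.Sequence Pointwise
open scoped TensorProduct

namespace Groth.Agent.Lib.EGA75.GrRegular

variable {L : Type u} [CommRing L] (J : Ideal L)

/-- The `n`-th piece of the associated graded module. -/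
abbrev Piece (N : Type v) [AddCommGroup N] [Module L N] (n : ℕ) : Type v :=
  ↥(J ^ n • (⊤ : Submodule L N)) ⧸ (J • (⊤ : Submodule L ↥(J ^ n • (⊤ : Submodule L N))))

theorem mem_smul_top_iff {N : Type v} [AddCommGroup N] [Module L N] (n : ℕ)
    (x : ↥(J ^ n • (⊤ : Submodule L N))) :
    x ∈ J • (⊤ : Submodule L ↥(J ^ n • (⊤ : Submodule L N))) ↔
      (x : N) ∈ J ^ (n + 1) • (⊤ : Submodule L N) := by
  have h : (J • (⊤ : Submodule L ↥(J ^ n • (⊤ : Submodule L N)))).map
      (J ^ n • (⊤ : Submodule L N)).subtype = J ^ (n + 1) • (⊤ : Submodule L N) := by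
    rw [Submodule.map_smul'', Submodule.map_subtype_top, pow_succ', ← smul_eq_mul, Submodule.smul_assoc]
  rw [← h]
  exact ⟨fun hx => Submodule.mem_map_of_mem hx, fun hx => by
    obtain ⟨y, hy, hyx⟩ := hx
    rwa [← Subtype.ext hyx]⟩

/-- An element regular on the graded pieces is regular modulo all powers. -/
theorem mem_of_smul_mem {N : Type v} [AddCommGroup N] [Module L N] {z : L}
    (hz : ∀ n, IsSMulRegular (Piece J N n) z) :
    ∀ (n : ℕ) (m : N), z • m ∈ J ^ n • (⊤ : Submodule L N) → m ∈ J ^ n • (⊤ : Submodule L N)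
  | 0, m, _ => by simp
  | n + 1, m, hm => by
    have hmn : m ∈ J ^ n • (⊤ : Submodule L N) :=
      mem_of_smul_mem hz n m (Submodule.smul_mono_left (Ideal.pow_le_pow_right n.le_succ) hm)
    let x : ↥(J ^ n • (⊤ : Submodule L N)) := ⟨m, hmn⟩
    have h0 : z • (Submodule.Quotient.mk x : Piece J N n) = 0 := by
      rw [← Submodule.Quotient.mk_smul, Submodule.Quotient.mk_eq_zero, mem_smul_top_iff]
      exact hm
    exact (mem_smul_top_iff J n x).1 ((Submodule.Quotient.mk_eq_zero _).1 ((hz n).right_eq_zero_of_smul h0))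

variable [IsLocalRing L] [IsNoetherianRing L]

/-- A sequence weakly regular on every graded piece is weakly regular on the module. -/
theorem isWeaklyRegular_of_pieces (hJ : J ≠ ⊤) : ∀ (zs : List L) (N : Type v) [AddCommGroup N] [Module L N]
    [Module.Finite L N], (∀ n, IsWeaklyRegular (Piece J N n) zs) → IsWeaklyRegular N zs
  | [], N, _, _, _, _ => IsWeaklyRegular.nil L N
  | z :: zs, N, _, _, _, h => by
    have hz : ∀ n, IsSMulRegular (Piece J N n) z := fun n => ((isWeaklyRegular_cons_iff _ _ _).1 (h n)).1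
    refine (isWeaklyRegular_cons_iff _ _ _).2
      ⟨IsSMulRegular.of_right_eq_zero_of_smul fun m hm => ?_,
        isWeaklyRegular_of_pieces hJ zs (QuotSMulTop z N) fun n => ?_⟩
    · have hm' : m ∈ (⨅ i : ℕ, J ^ i • ⊤ : Submodule L N) := by
        rw [Submodule.mem_iInf]
        exact fun i => mem_of_smul_mem J hz i m (by rw [hm]; exact zero_mem _)
      rwa [Ideal.iInf_pow_smul_eq_bot_of_isLocalRing J hJ] at hm'
    · let N' := QuotSMulTop z N
      let π : N →ₗ[L] N' := (z • (⊤ : Submodule L N)).mkQ
      have hπ : ∀ i, (J ^ i • (⊤ : Submodule L N)).map π = J ^ i • (⊤ : Submodule L N') := fun i => by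
        rw [Submodule.map_smul'', Submodule.map_top, Submodule.range_mkQ]
      let π' : ↥(J ^ n • (⊤ : Submodule L N)) →ₗ[L] ↥(J ^ n • (⊤ : Submodule L N')) :=
        π.restrict fun x hx => hπ n ▸ Submodule.mem_map_of_mem hx
      let ρ₀ : ↥(J ^ n • (⊤ : Submodule L N)) →ₗ[L] Piece J N' n := (Submodule.mkQ _).comp π'
      have hρ₀ : ∀ x, ρ₀ x = 0 ↔ π (x : N) ∈ J ^ (n + 1) • (⊤ : Submodule L N') := fun x => by
        change Submodule.Quotient.mk (π' x) = (0 : Piece J N' n) ↔ _
        rw [Submodule.Quotient.mk_eq_zero, mem_smul_top_iff]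
        rfl
      let ρ : Piece J N n →ₗ[L] Piece J N' n :=
        Submodule.liftQ _ ρ₀ fun x hx => (hρ₀ x).2 (hπ (n + 1) ▸
          Submodule.mem_map_of_mem ((mem_smul_top_iff J n x).1 hx))
      have hsurj : Function.Surjective ρ := fun y => by
        obtain ⟨⟨y, hy⟩, rfl⟩ := Submodule.Quotient.mk_surjective _ y
        rw [← hπ n] at hy
        obtain ⟨x, hx, rfl⟩ := hy
        exact ⟨Submodule.Quotient.mk ⟨x, hx⟩, rfl⟩
      have hker : LinearMap.ker ρ = z • (⊤ : Submodule L (Piece J N n)) := by
        ext w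
        obtain ⟨x, rfl⟩ := Submodule.Quotient.mk_surjective _ w
        rw [LinearMap.mem_ker, show ρ (Submodule.Quotient.mk x) = ρ₀ x from rfl, hρ₀, ← hπ (n + 1)]
        constructor
        · rintro ⟨y, hy, hyx⟩
          have : (x : N) - y ∈ z • (⊤ : Submodule L N) :=
            (Submodule.Quotient.eq _).1 hyx.symm
          obtain ⟨m, -, hm⟩ := (Submodule.mem_smul_pointwise_iff_exists _ _ _).1 this
          have hy' : y ∈ J ^ n • (⊤ : Submodule L N) :=
            Submodule.smul_mono_left (Ideal.pow_le_pow_right n.le_succ) hy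
          have hm' : m ∈ J ^ n • (⊤ : Submodule L N) :=
            mem_of_smul_mem J hz n m (hm ▸ sub_mem x.2 hy')
          refine (Submodule.mem_smul_pointwise_iff_exists _ _ _).2
            ⟨Submodule.Quotient.mk ⟨m, hm'⟩, trivial, ?_⟩
          rw [← Submodule.Quotient.mk_smul, Submodule.Quotient.eq, mem_smul_top_iff]
          change z • m - (x : N) ∈ _
          rw [hm, sub_sub_cancel_left]
          exact neg_mem hy
        · intro hw
          obtain ⟨w, -, hw⟩ := (Submodule.mem_smul_pointwise_iff_exists _ _ _).1 hw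
          obtain ⟨m, rfl⟩ := Submodule.Quotient.mk_surjective _ w
          rw [← Submodule.Quotient.mk_smul, Submodule.Quotient.eq, mem_smul_top_iff] at hw
          refine ⟨(x : N) - z • (m : N), ?_, ?_⟩
          · rw [← neg_sub]
            exact neg_mem hw
          · rw [map_sub, sub_eq_self]
            exact (Submodule.Quotient.mk_eq_zero _).2
              (Submodule.smul_mem_pointwise_smul _ _ _ trivial)
      let e : QuotSMulTop z (Piece J N n) ≃ₗ[L] Piece J N' n :=
        (Submodule.quotEquivOfEq _ _ hker.symm).trans (ρ.quotKerEquivOfSurjective hsurj)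
      exact (e.isWeaklyRegular_congr zs).1 ((isWeaklyRegular_cons_iff _ _ _).1 (h n)).2

/-- Depth is at least that of the quotient ring for a module normally flat along the ideal. -/
theorem isWeaklyRegular_of_isNormallyFlat (hJ : J ≠ ⊤) (N : Type u) [AddCommGroup N] [Module L N]
    [Module.Finite L N] (hN : EGA4.IsNormallyFlat J N) (zs : List L)
    (hzs : IsWeaklyRegular (L ⧸ J) zs) : IsWeaklyRegular N zs := by
  refine isWeaklyRegular_of_pieces J hJ zs N fun n => ?_
  haveI : Module.Flat (L ⧸ J) (Piece J N n) := hN n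
  rw [← isWeaklyRegular_map_algebraMap_iff (L ⧸ J) (Piece J N n) zs]
  rw [← isWeaklyRegular_map_algebraMap_iff (L ⧸ J) (L ⧸ J) zs] at hzs
  exact ((TensorProduct.rid (L ⧸ J) (Piece J N n)).isWeaklyRegular_congr _).1
    (hzs.isWeaklyRegular_lTensor (M₂ := Piece J N n))

end Groth.Agent.Lib.EGA75.GrRegular
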