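import Groth.Prelude.Def_EGA4b
import Mathlib.RingTheory.Localization.BaseChange
import Mathlib.RingTheory.Flat.Stability
import Mathlib.RingTheory.TensorProduct.Quotient

/-!
# Localization of normal flatness
-/

set_option autoImplicit false
set_option linter.style.haveILetI false

universe u

open scoped TensorProduct

namespace Groth.Agent.Lib.EGA75.NormFlatLocal

/-- Normal flatness localizes. -/
theorem isNormallyFlat_localized {A : Type u} [CommRing A] (S : Submonoid A) (I : Ideal A)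
    (M : Type u) [AddCommGroup M] [Module A M] (hM : EGA4.IsNormallyFlat I M) :
    EGA4.IsNormallyFlat (I.map (algebraMap A (Localization S))) (LocalizedModule S M) := by
  intro n
  let A' := Localization S
  let g := LocalizedModule.mkLinearMap S M
  let I' : Ideal A' := I.map (algebraMap A A')
  let N : Submodule A M := I ^ n • ⊤
  have hN : N.localized' A' S g = I' ^ n • (⊤ : Submodule A' (LocalizedModule S M)) := by
    show (I ^ n • (⊤ : Submodule A M)).localized' A' S g = _
    rw [Submodule.localized'_smul]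
    congr 1
    · rw [Submodule.localized'_eq_span, ← Ideal.map_pow]
      rfl
    · exact Submodule.localized'_top A' S g
  letI : Algebra (A ⧸ I) (A' ⧸ I') :=
    (Ideal.quotientMap I' (algebraMap A A') Ideal.le_comap_map).toAlgebra
  haveI : IsScalarTower A (A ⧸ I) (A' ⧸ I') := .of_algebraMap_eq fun a => rfl
  haveI h0 : Module.Flat (A ⧸ I) ((A ⧸ I) ⊗[A] ↥N) :=
    haveI := hM n
    Module.Flat.of_linearEquiv
      (LinearEquiv.extendScalarsOfSurjective (Ideal.Quotient.mk_surjective (I := I))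
        (TensorProduct.quotTensorEquivQuotSMul ↥N I))
  haveI h1 : Module.Flat (A' ⧸ I') ((A' ⧸ I') ⊗[A ⧸ I] ((A ⧸ I) ⊗[A] ↥N)) := inferInstance
  haveI h2 : Module.Flat (A' ⧸ I') ((A' ⧸ I') ⊗[A] ↥N) :=
    Module.Flat.of_linearEquiv (TensorProduct.AlgebraTensorModule.cancelBaseChange A (A ⧸ I) (A' ⧸ I') (A' ⧸ I') ↥N).symm
  have hb : IsBaseChange A' (N.toLocalized' A' S g) := IsLocalizedModule.isBaseChange S A' _
  let e1 : (A' ⊗[A] ↥N) ≃ₗ[A'] ↥(I' ^ n • (⊤ : Submodule A' (LocalizedModule S M))) :=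
    hb.equiv ≪≫ₗ LinearEquiv.ofEq _ _ hN
  let F' : Submodule A' (LocalizedModule S M) := I' ^ n • ⊤
  have hsurj : Function.Surjective (algebraMap A' (A' ⧸ I')) := Ideal.Quotient.mk_surjective
  let e2 : ((A' ⧸ I') ⊗[A'] ↥F') ≃ₗ[A' ⧸ I'] (↥F' ⧸ (I' • ⊤ : Submodule A' ↥F')) :=
    LinearEquiv.extendScalarsOfSurjective hsurj (TensorProduct.quotTensorEquivQuotSMul ↥F' I')
  exact Module.Flat.of_linearEquiv (e2.symm ≪≫ₗ
    TensorProduct.AlgebraTensorModule.congr (LinearEquiv.refl _ _) e1.symm ≪≫ₗ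
    TensorProduct.AlgebraTensorModule.cancelBaseChange A A' (A' ⧸ I') (A' ⧸ I') ↥N)

end Groth.Agent.Lib.EGA75.NormFlatLocal
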