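import Groth.Agent.H20.PDDepth
import Groth.Agent.H20.CMDim
import Groth.Agent.Lib.DMod.SupportDim
import Groth.Agent.Lib.DMod.LocLoc
import Groth.Agent.Lib.JacCrit.FlatRegular
import Groth.Prelude.Def_EGA4b

/-!
# Semicontinuity of the codepth and openness of `(Sₙ)` over quotients of regular rings
-/

set_option autoImplicit false
set_option linter.style.haveILetI false

universe u

open IsLocalRing
open Groth.Agent.Lib

namespace Groth.Agent.Lib.EGA75.Codepth

/-- A chain of primes bounds the difference of heights. -/
theorem height_head_add_length_le {R : Type u} [CommRing R] {P : PrimeSpectrum R → Prop}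
    (s : LTSeries {q : PrimeSpectrum R // P q}) :
    Order.height s.head.1 + s.length ≤ Order.height s.last.1 := by
  suffices h : ∀ (i : ℕ) (hi : i < s.length + 1),
      Order.height s.head.1 + i ≤ Order.height (s ⟨i, hi⟩).1 from h s.length (Nat.lt_succ_self _)
  intro i
  induction i with
  | zero => intro hi; simp [RelSeries.head]
  | succ i ih =>
    intro hi
    have hstep : (s ⟨i, by omega⟩).1 < (s ⟨i + 1, hi⟩).1 := s.step ⟨i, by omega⟩
    calc Order.height s.head.1 + ((i + 1 : ℕ) : ℕ∞) = Order.height s.head.1 + i + 1 := by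
          rw [Nat.cast_succ, add_assoc]
      _ ≤ Order.height (s ⟨i, by omega⟩).1 + 1 := add_le_add (ih _) le_rfl
      _ ≤ Order.height (s ⟨i + 1, hi⟩).1 := Order.height_add_one_le hstep

theorem ideal_height_eq {R : Type u} [CommRing R] (q : PrimeSpectrum R) :
    q.asIdeal.height = Order.height q := by
  exact PrimeSpectrum.height_eq_orderHeight q

section regular

variable {R : Type u} [CommRing R] [IsRegularRing R] (M : Type u) [AddCommGroup M] [Module R M]
  [Module.Finite R M]

/-- The dimension of `M_p` in terms of the heights of the minimal primes of `M` below `p`. -/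
theorem supportDim_le_iff (p : PrimeSpectrum R) (d : ℕ) :
    Module.supportDim (Localization.AtPrime p.asIdeal) (LocalizedModule p.asIdeal.primeCompl M) ≤ d ↔
      ∀ Q ∈ (Module.annihilator R M).minimalPrimes, Q ≤ p.asIdeal →
        p.asIdeal.height ≤ Q.height + d := by
  rw [DMod.SupportDim.supportDim_localized]
  constructor
  · intro h Q hQ hQp
    haveI := hQ.1.1
    let L := Localization.AtPrime p.asIdeal
    haveI : IsRegularLocalRing L := IsRegularRing.isRegularLocalRing_localization p.asIdeal
    haveI := JacCrit.FlatRegular.isCohenMacaulayLocalRing L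
    have hdisj : Disjoint (p.asIdeal.primeCompl : Set R) Q :=
      Set.disjoint_left.2 fun x hx hxQ => hx (hQp hxQ)
    let Q' : Ideal L := Q.map (algebraMap R L)
    haveI : Q'.IsPrime := IsLocalization.isPrime_of_isPrime_disjoint p.asIdeal.primeCompl L Q hQ.1.1 hdisj
    have hcomap : Q'.comap (algebraMap R L) = Q :=
      IsLocalization.under_map_of_isPrime_disjoint p.asIdeal.primeCompl L hQ.1.1 hdisj
    have hht : Q'.height = Q.height := by
      have := IsLocalization.height_under p.asIdeal.primeCompl Q'
      rw [Ideal.under_def, hcomap] at this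
      exact this.symm
    have hsupp : ∀ q : PrimeSpectrum R, Q ≤ q.asIdeal → q ∈ Module.support R M := fun q hq => by
      rw [Module.support_eq_zeroLocus]
      exact hQ.1.2.trans hq
    have hle : ringKrullDim (L ⧸ Q') ≤ d := by
      rw [ringKrullDim_quotient]
      refine le_trans ?_ h
      let e := IsLocalization.AtPrime.primeSpectrumOrderIso L p.asIdeal
      refine Order.krullDim_le_of_strictMono
        (fun x : PrimeSpectrum.zeroLocus (Q' : Set L) => ⟨(e x.1).1, hsupp _ ?_, (e x.1).2⟩)
        fun a b hab => e.strictMono hab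
      intro z hz
      exact x.2 (Ideal.mem_map_of_mem _ hz)
    have hf := H20.CMDim.ringKrullDim_quotient_add_height (R := L) Depth.CM.isCohenMacaulayModule_self
      (Set.eq_univ_of_forall fun q => Module.mem_support_iff_of_finite.2 fun z hz => by
        have h1 := Module.mem_annihilator.1 hz 1
        rw [smul_eq_mul, mul_one] at h1
        rw [h1]; exact zero_mem _) Q'
    rw [hht, IsLocalization.AtPrime.ringKrullDim_eq_height p.asIdeal L] at hf
    obtain ⟨e, he⟩ := WithBot.ne_bot_iff_exists.1
      (ringKrullDim_ne_bot (R := L ⧸ Q'))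
    rw [← he] at hle hf
    rw [← WithBot.coe_add, WithBot.coe_inj] at hf
    rw [← hf, add_comm]
    exact add_le_add le_rfl (WithBot.coe_le_coe.1 hle)
  · intro h
    refine iSup_le fun s => WithBot.coe_le_coe.2 (show ((s.length : ℕ) : ℕ∞) ≤ (d : ℕ∞) from ?_)
    obtain ⟨hsupp, -⟩ := s.head.2
    replace hsupp := Module.mem_support_iff_of_finite.1 hsupp
    obtain ⟨Q, hQ, hQle⟩ := Ideal.exists_minimalPrimes_le hsupp
    haveI := hQ.1.1
    have hlast : s.head.1.asIdeal ≤ p.asIdeal := s.head.2.2
    have h1 := h Q hQ (hQle.trans hlast)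
    have h2 : Q.height ≤ Order.height s.head.1 :=
      (Ideal.height_mono hQle).trans (ideal_height_eq s.head.1).le
    have h3 : Order.height s.last.1 ≤ p.asIdeal.height :=
      (ideal_height_eq p) ▸ Order.height_mono s.last.2.2
    have h4 := (add_le_add h2 le_rfl).trans ((height_head_add_length_le s).trans (h3.trans h1))
    obtain ⟨c, hc⟩ := ENat.ne_top_iff_exists.1 (Ideal.height_ne_top (I := Q) hQ.1.1.ne_top)
    rw [← hc] at h4
    norm_cast at h4 ⊢
    omega

/-- The locus where the codepth is at most `n`, over a regular ring. -/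
theorem setOf_codepth_le (n : ℕ) :
    {p : PrimeSpectrum R |
      Module.supportDim (Localization.AtPrime p.asIdeal) (LocalizedModule p.asIdeal.primeCompl M) ≤
        ((LocCoh.depth (Localization.AtPrime p.asIdeal) (LocalizedModule p.asIdeal.primeCompl M) : ℕ∞) :
          WithBot ℕ∞) + n} =
    ⋂ Q ∈ (Module.annihilator R M).minimalPrimes,
      (PrimeSpectrum.zeroLocus (Q : Set R))ᶜ ∪
        {p : PrimeSpectrum R | Regular.PD.PDle (Localization.AtPrime p.asIdeal)
          (LocalizedModule p.asIdeal.primeCompl M) (n + Q.height.toNat)} := by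
  ext p
  simp only [Set.mem_iInter, Set.mem_union, Set.mem_compl_iff, PrimeSpectrum.mem_zeroLocus, Set.mem_ofPred_eq,
    SetLike.coe_subset_coe]
  let Lp := Localization.AtPrime p.asIdeal
  let Mp := LocalizedModule p.asIdeal.primeCompl M
  haveI : IsRegularLocalRing Lp := IsRegularRing.isRegularLocalRing_localization p.asIdeal
  haveI : Module.Finite Lp Mp := Module.Finite.of_isLocalizedModule p.asIdeal.primeCompl
    (LocalizedModule.mkLinearMap p.asIdeal.primeCompl M)
  rcases subsingleton_or_nontrivial Mp with hM | hM
  · refine iff_of_true ?_ fun Q hQ => Or.inl fun hQp => ?_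
    · rw [Module.supportDim_eq_bot_of_subsingleton]
      exact bot_le
    · have : p ∈ Module.support R M := by
        rw [Module.support_eq_zeroLocus]
        exact hQ.1.2.trans hQp
      exact not_subsingleton_iff_nontrivial.2 (Module.mem_support_iff.1 this) hM
  · obtain ⟨j, hj⟩ := ENat.ne_top_iff_exists.1 (Depth.Assoc.depth_ne_top (R := Lp) Mp)
    have hspan : ((maximalIdeal Lp).spanFinrank : ℕ∞) = p.asIdeal.height := by
      have := IsRegularLocalRing.spanFinrank_maximalIdeal (R := Lp)
      rw [IsLocalization.AtPrime.ringKrullDim_eq_height p.asIdeal Lp] at this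
      exact WithBot.coe_inj.1 this
    have key : ∀ Q ∈ (Module.annihilator R M).minimalPrimes,
        (Regular.PD.PDle Lp Mp (n + Q.height.toNat) ↔
          p.asIdeal.height ≤ Q.height + ((j + n : ℕ) : ℕ∞)) := fun Q hQ => by
      haveI := hQ.1.1
      obtain ⟨c, hc⟩ := ENat.ne_top_iff_exists.1 (Ideal.height_ne_top (I := Q) hQ.1.1.ne_top)
      rw [H20.PDDepth.pdle_iff_le_depth_add, hspan, ← hj, ← hc, ENat.toNat_natCast]
      push_cast
      rw [show (j : ℕ∞) + ((n : ℕ∞) + c) = c + (j + n) by ring]
    rw [← hj]
    have := supportDim_le_iff M p (j + n)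
    push_cast at this ⊢
    refine this.trans (forall₂_congr fun Q hQ => ?_)
    have := key Q hQ
    push_cast at this
    rw [this]
    exact imp_iff_not_or

theorem isOpen_codepth_le (n : ℕ) :
    IsOpen {p : PrimeSpectrum R |
      Module.supportDim (Localization.AtPrime p.asIdeal) (LocalizedModule p.asIdeal.primeCompl M) ≤
        ((LocCoh.depth (Localization.AtPrime p.asIdeal) (LocalizedModule p.asIdeal.primeCompl M) : ℕ∞) :
          WithBot ℕ∞) + n} := by
  rw [setOf_codepth_le]
  exact (Ideal.finite_minimalPrimes_of_isNoetherianRing R _).isOpen_biInter fun Q _ =>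
    ((PrimeSpectrum.isClosed_zeroLocus _).isOpen_compl).union (H20.PDDepth.isOpen_setOf_pdle _ M)

end regular

section quotient

variable {R A : Type u} [CommRing R] [CommRing A] [Algebra R A]
  (hs : Function.Surjective (algebraMap R A)) (M : Type u) [AddCommGroup M] [Module A M] [Module R M]
  [IsScalarTower R A M]
include hs

theorem mem_support_iff (q : PrimeSpectrum A) :
    PrimeSpectrum.comap (algebraMap R A) q ∈ Module.support R M ↔ q ∈ Module.support A M := by
  rw [Module.mem_support_iff', Module.mem_support_iff']
  refine exists_congr fun m => ⟨fun hh a ha => ?_, fun hh r hr => ?_⟩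
  · obtain ⟨r, rfl⟩ := hs a
    rw [algebraMap_smul]
    exact hh r ha
  · rw [← algebraMap_smul A r m]
    exact hh _ hr

theorem supportDim_eq (p : PrimeSpectrum A) :
    Module.supportDim (Localization.AtPrime p.asIdeal) (LocalizedModule p.asIdeal.primeCompl M) =
      Module.supportDim (Localization.AtPrime (PrimeSpectrum.comap (algebraMap R A) p).asIdeal)
        (LocalizedModule (PrimeSpectrum.comap (algebraMap R A) p).asIdeal.primeCompl M) := by
  rw [DMod.SupportDim.supportDim_localized, DMod.SupportDim.supportDim_localized]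
  have hker : ∀ q : PrimeSpectrum R, q ∈ Module.support R M → RingHom.ker (algebraMap R A) ≤ q.asIdeal :=
    fun q hq r hr => by
    refine Module.annihilator_le_of_mem_support hq (Module.mem_annihilator.2 fun m => ?_)
    rw [← algebraMap_smul A r m, RingHom.mem_ker.1 hr, zero_smul]
  let f : {q : PrimeSpectrum A // q ∈ Module.support A M ∧ q ≤ p} ↪o
      {q : PrimeSpectrum R // q ∈ Module.support R M ∧ q ≤ PrimeSpectrum.comap (algebraMap R A) p} :=
    OrderEmbedding.ofMapLEIff (fun q => ⟨PrimeSpectrum.comap (algebraMap R A) q.1,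
      (mem_support_iff hs M q.1).2 q.2.1, Ideal.comap_mono q.2.2⟩)
      fun a b => Ideal.comap_le_comap_iff_of_surjective _ hs _ _
  refine Order.krullDim_eq_of_orderIso (RelIso.ofSurjective f ?_)
  rintro ⟨q, hq, hqp⟩
  let q' : PrimeSpectrum A :=
    ⟨q.asIdeal.map (algebraMap R A), Ideal.map_isPrime_of_surjective hs (hker q hq)⟩
  have he : PrimeSpectrum.comap (algebraMap R A) q' = q := PrimeSpectrum.ext (by
    change (q.asIdeal.map (algebraMap R A)).comap (algebraMap R A) = q.asIdeal
    rw [Ideal.comap_map_of_surjective _ hs]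
    exact sup_eq_left.2 (hker q hq))
  refine ⟨⟨q', (mem_support_iff hs M q').1 (he ▸ hq), ?_⟩, Subtype.ext he⟩
  exact (Ideal.comap_le_comap_iff_of_surjective _ hs _ _).1
    (show (PrimeSpectrum.comap (algebraMap R A) q').asIdeal ≤ _ from he.symm ▸ hqp)

theorem depth_eq (p : PrimeSpectrum A) :
    LocCoh.depth (Localization.AtPrime p.asIdeal) (LocalizedModule p.asIdeal.primeCompl M) =
      LocCoh.depth (Localization.AtPrime (PrimeSpectrum.comap (algebraMap R A) p).asIdeal)
        (LocalizedModule (PrimeSpectrum.comap (algebraMap R A) p).asIdeal.primeCompl M) := by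
  let q := p.asIdeal.comap (algebraMap R A)
  haveI hT : IsScalarTower R (Localization q.primeCompl) (LocalizedModule q.primeCompl M) := inferInstance
  let Ap := Localization.AtPrime p.asIdeal
  let N := LocalizedModule p.asIdeal.primeCompl M
  let φ : Localization.AtPrime q →+* Ap := Localization.localRingHom q p.asIdeal (algebraMap R A) rfl
  have hφ : Function.Surjective φ := fun z => by
    obtain ⟨a, t, rfl⟩ := IsLocalization.exists_mk'_eq p.asIdeal.primeCompl z
    obtain ⟨r, rfl⟩ := hs a
    obtain ⟨t, ht⟩ := t
    obtain ⟨s, rfl⟩ := hs t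
    exact ⟨IsLocalization.mk' _ r (⟨s, ht⟩ : q.primeCompl), Localization.localRingHom_mk' ..⟩
  letI : Algebra (Localization.AtPrime q) Ap := φ.toAlgebra
  letI : Module (Localization.AtPrime q) N := Module.compHom N φ
  haveI : IsScalarTower (Localization.AtPrime q) Ap N :=
    IsScalarTower.of_algebraMap_smul fun r n => rfl
  haveI : IsScalarTower R (Localization.AtPrime q) N := IsScalarTower.of_algebraMap_smul fun r n => by
    change φ (algebraMap R _ r) • n = r • n
    rw [Localization.localRingHom_to_map, ← IsScalarTower.algebraMap_apply R A Ap, algebraMap_smul]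
  let g : M →ₗ[R] N := (LocalizedModule.mkLinearMap p.asIdeal.primeCompl M).restrictScalars R
  haveI : IsLocalizedModule q.primeCompl g := by
    refine ⟨fun t => ?_, fun n => ?_, fun {m₁ m₂} hm => ?_⟩
    · refine (Module.End.isUnit_iff _).2 ?_
      have := (Module.End.isUnit_iff _).1 (IsLocalizedModule.map_units
        (LocalizedModule.mkLinearMap p.asIdeal.primeCompl M) (⟨algebraMap R A t, t.2⟩ : p.asIdeal.primeCompl))
      convert this using 1
      ext z
      simp [Module.algebraMap_end_apply]
    · obtain ⟨⟨m, t⟩, hmt⟩ := IsLocalizedModule.surj p.asIdeal.primeCompl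
        (LocalizedModule.mkLinearMap p.asIdeal.primeCompl M) n
      obtain ⟨t, ht⟩ := t
      obtain ⟨s, rfl⟩ := hs t
      refine ⟨(m, ⟨s, ht⟩), ?_⟩
      change s • n = g m
      rw [← algebraMap_smul A s n]
      exact hmt
    · obtain ⟨⟨t, ht⟩, hm'⟩ := (IsLocalizedModule.eq_iff_exists p.asIdeal.primeCompl
        (LocalizedModule.mkLinearMap p.asIdeal.primeCompl M)).1 hm
      obtain ⟨s, rfl⟩ := hs t
      refine ⟨⟨s, ht⟩, ?_⟩
      change s • m₁ = s • m₂
      rw [← algebraMap_smul A s m₁, ← algebraMap_smul A s m₂]
      exact hm'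
  rw [← Depth.Basic.depth_eq_of_surjective (R := Localization.AtPrime q) (S := Ap) (M := N) hφ]
  have e0 : LocalizedModule q.primeCompl M ≃ₗ[R] N := IsLocalizedModule.iso q.primeCompl g
  exact (Depth.Basic.depth_congr
    (e0.extendScalarsOfIsLocalization q.primeCompl (Localization.AtPrime q))).symm

variable [IsRegularRing R] [Module.Finite A M]

/-- The locus of codepth at most `n` is open. -/
theorem isOpen_setOf (n : ℕ) :
    IsOpen {p : PrimeSpectrum A |
      Module.supportDim (Localization.AtPrime p.asIdeal) (LocalizedModule p.asIdeal.primeCompl M) ≤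
        ((LocCoh.depth (Localization.AtPrime p.asIdeal) (LocalizedModule p.asIdeal.primeCompl M) : ℕ∞) :
          WithBot ℕ∞) + n} := by
  haveI : Module.Finite R A := Module.Finite.of_surjective (Algebra.linearMap R A) hs
  haveI : Module.Finite R M := Module.Finite.trans A M
  simp_rw [supportDim_eq hs M, depth_eq hs M]
  exact (isOpen_codepth_le (R := R) M n).preimage (PrimeSpectrum.continuous_comap (algebraMap R A))

end quotient

end Groth.Agent.Lib.EGA75.Codepth
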