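import Groth.Agent.Lib.EGA75.Main
import Groth.Agent.Lib.Excellent.Transport

/-!
# Fibres of composites for properties lifting from base and closed fibre
-/

set_option autoImplicit false
set_option linter.style.haveILetI false

universe u

open IsLocalRing
open scoped TensorProduct nonZeroDivisors
open Groth.Agent.Lib.Excellent

namespace Groth.Agent.Lib.EGA75.Comp

/-- Properties of local rings which lift along flat local maps from base and closed fibre. -/
structure CompProp (P : ∀ (S : Type u) [CommRing S], Prop) : Prop where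
  iso : FormalFibre.IsoInvariant.{u} P
  comp : ∀ (R : Type u) [CommRing R] [IsLocalRing R] [IsNoetherianRing R] (S : Type u) [CommRing S]
    [IsLocalRing S] [IsNoetherianRing S] [Algebra R S] [Module.Flat R S] [IsLocalHom (algebraMap R S)],
    P R → P (S ⧸ (maximalIdeal R).map (algebraMap R S)) → P S

/-- A property which lifts from base and closed fibre holds at primes over good points with good fibres. -/
theorem atPrime {P : ∀ (S : Type u) [CommRing S], Prop} (hP : CompProp P)
    (A1 T : Type u) [CommRing A1] [IsNoetherianRing A1] [CommRing T]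
    [IsNoetherianRing T] [Algebra A1 T] [Module.Flat A1 T]
    (Q : Ideal T) [Q.IsPrime] (p : Ideal A1) [p.IsPrime]
    (hQp : Q.comap (algebraMap A1 T) = p) (hreg : P (Localization.AtPrime p))
    (hfib : ∀ (Qb : Ideal (T ⧸ p.map (algebraMap A1 T))) [Qb.IsPrime],
      Qb.comap (Ideal.Quotient.mk _) = Q → P (Localization.AtPrime Qb)) :
    P (Localization.AtPrime Q) := by
  let R' := Localization.AtPrime p
  let S := Localization.AtPrime Q
  haveI : IsNoetherianRing S := IsLocalization.isNoetherianRing Q.primeCompl S inferInstance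
  haveI : IsNoetherianRing R' := IsLocalization.isNoetherianRing p.primeCompl R' inferInstance
  let φ : R' →+* S := Localization.localRingHom p Q (algebraMap A1 T) hQp.symm
  letI : Algebra R' S := φ.toAlgebra
  haveI : IsScalarTower A1 R' S := .of_algebraMap_eq fun a => by
    rw [RingHom.algebraMap_toAlgebra, Localization.localRingHom_to_map,
      IsScalarTower.algebraMap_apply A1 T S]
  haveI : IsLocalHom (algebraMap R' S) := Localization.isLocalHom_localRingHom p Q _ hQp.symm
  haveI : Module.Flat A1 S := Module.Flat.trans A1 T S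
  haveI : Module.Flat R' S := (Module.flat_iff_of_isLocalization R' p.primeCompl S).2 inferInstance
  have hS : P S := by
    refine hP.comp R' S hreg ?_
    let J := p.map (algebraMap A1 T)
    have hJQ : J ≤ Q := Ideal.map_le_iff_le_comap.2 hQp.ge
    let Qb := Q.map (Ideal.Quotient.mk J)
    haveI : Qb.IsPrime := Ideal.map_isPrime_of_surjective Ideal.Quotient.mk_surjective
      (by rwa [Ideal.mk_ker])
    have hQb : Qb.comap (Ideal.Quotient.mk J) = Q := by
      rw [Ideal.comap_map_of_surjective _ Ideal.Quotient.mk_surjective, ← RingHom.ker_eq_comap_bot,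
        Ideal.mk_ker, sup_eq_left.2 hJQ]
    have hM : Algebra.algebraMapSubmonoid (T ⧸ J) Q.primeCompl = Qb.primeCompl := by
      ext y
      constructor
      · rintro ⟨t, ht, rfl⟩ hty
        exact ht (hQb ▸ hty)
      · intro hy
        obtain ⟨t, rfl⟩ := Ideal.Quotient.mk_surjective y
        exact ⟨t, fun ht => hy (Ideal.mem_map_of_mem _ ht), rfl⟩
    haveI : IsLocalization Qb.primeCompl (S ⧸ J.map (algebraMap T S)) := hM ▸ inferInstance
    have hJ : J.map (algebraMap T S) = (maximalIdeal R').map (algebraMap R' S) := by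
      rw [← Localization.AtPrime.map_eq_maximalIdeal (I := p), Ideal.map_map, Ideal.map_map,
        ← IsScalarTower.algebraMap_eq, ← IsScalarTower.algebraMap_eq]
    exact hP.iso _ _ ((IsLocalization.algEquiv Qb.primeCompl (Localization.AtPrime Qb)
      (S ⧸ J.map (algebraMap T S))).toRingEquiv.trans (Ideal.quotEquivOfEq hJ)) (hfib Qb hQb)
  exact hS

/-- The closed fibre of a localization read in the fibre ring. -/
theorem fibre_atPrime {P : ∀ (S : Type u) [CommRing S], Prop} (hP : FormalFibre.IsoInvariant.{u} P) (R S : Type u) [CommRing R] [CommRing S] [Algebra R S] (p : Ideal R) [p.IsPrime]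
    (q : Ideal S) [q.IsPrime] (hqp : q.comap (algebraMap R S) = p) (h : ∀ (Q : Ideal (p.Fiber S)) [Q.IsPrime], P (Localization.AtPrime Q))
    (Qb : Ideal (S ⧸ p.map (algebraMap R S))) [Qb.IsPrime] (hQb : Qb.comap (Ideal.Quotient.mk _) = q) :
    P (Localization.AtPrime Qb) := by
  haveI : IsDomain (R ⧸ p) := Ideal.Quotient.isDomain p
  let e' : (S ⧸ p.map (algebraMap R S)) ≃ₐ[R] (R ⧸ p) ⊗[R] S :=
    ((Algebra.TensorProduct.quotIdealMapEquivTensorQuot S p).restrictScalars R).trans
      (Algebra.TensorProduct.comm R S (R ⧸ p))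
  let e := e'.toRingEquiv
  let Qc := Qb.comap e.symm.toRingHom
  haveI : Qc.IsPrime := Ideal.IsPrime.comap _
  refine hP (Localization.AtPrime Qc) (Localization.AtPrime Qb)
    (Localization.localRingEquiv Qc Qb e.symm rfl) ?_
  refine (Main.fraction_iff hP R S (R ⧸ p) p.ResidueField).1
    h Qc ?_
  rw [eq_bot_iff]
  intro z hzQ
  obtain ⟨z, rfl⟩ := Ideal.Quotient.mk_surjective z
  have hcomm : e (Ideal.Quotient.mk _ (algebraMap R S z)) =
      algebraMap (R ⧸ p) _ (Ideal.Quotient.mk p z) := by
    change e' (algebraMap R (S ⧸ p.map (algebraMap R S)) z) = _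
    rw [AlgEquiv.commutes]
    rfl
  have hz' : e.symm (algebraMap (R ⧸ p) _ (Ideal.Quotient.mk p z)) ∈ Qb := hzQ
  rw [← hcomm, e.symm_apply_apply] at hz'
  rw [Submodule.mem_bot, Ideal.Quotient.eq_zero_iff_mem]
  rw [← hqp, ← hQb]
  exact hz'

theorem fibre_comp {P : ∀ (S : Type u) [CommRing S], Prop} (hP : FormalFibre.IsoInvariant.{u} P)
    (B C B1 : Type u) [CommRing B] [CommRing C] [CommRing B1] [Algebra B C] [Algebra B B1] [Module.Finite B B1]
    (hBC : ∀ (L : Type u) [Field L] [Algebra B L], FormalFibre.IsFinPoint B L →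
      ∀ (Q : Ideal (L ⊗[B] C)) [Q.IsPrime], P (Localization.AtPrime Q))
    (p' : Ideal B1) [p'.IsPrime] (Q : Ideal (p'.ResidueField ⊗[B1] (B1 ⊗[B] C))) [Q.IsPrime] :
    P (Localization.AtPrime Q) := by
  haveI : Module.Finite B (B1 ⧸ p') :=
    Module.Finite.of_surjective (Ideal.Quotient.mkₐ B p').toLinearMap Ideal.Quotient.mk_surjective
  haveI : IsDomain (B1 ⧸ p') := Ideal.Quotient.isDomain p'
  exact Transport.forall_atPrime_congr hP
    (Algebra.TensorProduct.cancelBaseChange B B1 p'.ResidueField p'.ResidueField C).symm.toRingEquiv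
    (fun q _ => hBC _ (FormalFibre.isFinPoint_of_domain (B1 ⧸ p') _) q) Q

theorem aux {P : ∀ (S : Type u) [CommRing S], Prop} (hP : CompProp P) (A B C : Type u) [CommRing A] [CommRing B] [CommRing C] [IsNoetherianRing B]
    [IsNoetherianRing C] [Algebra A B] [Algebra B C] [Algebra A C] [IsScalarTower A B C] [Module.Flat B C]
    (hBC : ∀ (L : Type u) [Field L] [Algebra B L], FormalFibre.IsFinPoint B L →
      ∀ (Q : Ideal (L ⊗[B] C)) [Q.IsPrime], P (Localization.AtPrime Q))
    (R0 : Type u) [CommRing R0] [IsDomain R0] [Algebra A R0] [Module.Finite A R0]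
    (K : Type u) [Field K] [Algebra A K] [Algebra R0 K] [IsScalarTower A R0 K] [IsFractionRing R0 K]
    (h : ∀ (Q : Ideal (K ⊗[A] B)) [Q.IsPrime], P (Localization.AtPrime Q)) :
    ∀ (Q : Ideal (K ⊗[A] C)) [Q.IsPrime], P (Localization.AtPrime Q) := by
  let B1 := B ⊗[A] R0
  haveI : IsNoetherianRing B1 := IsNoetherianRing.of_finite B B1
  let C1 := B1 ⊗[B] C
  haveI : IsNoetherianRing (C ⊗[B] B1) := IsNoetherianRing.of_finite C (C ⊗[B] B1)
  haveI : IsNoetherianRing C1 :=
    isNoetherianRing_of_ringEquiv (C ⊗[B] B1) (Algebra.TensorProduct.comm B C B1).toRingEquiv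
  -- fibres of `C1` over `B1`
  -- `K ⊗ B` and `K ⊗ C` as localizations
  let M := Algebra.algebraMapSubmonoid (R0 ⊗[A] B) R0⁰
  letI : Algebra (R0 ⊗[A] B) (K ⊗[A] B) :=
    (Algebra.TensorProduct.map (IsScalarTower.toAlgHom A R0 K) (AlgHom.id A B)).toRingHom.toAlgebra
  haveI : IsScalarTower R0 (R0 ⊗[A] B) (K ⊗[A] B) := .of_algebraMap_eq fun x => by
    simp [RingHom.algebraMap_toAlgebra]
  haveI := IsLocalization.tensorProduct_tensorProduct A B R0⁰ K
    (by ext; simp [RingHom.algebraMap_toAlgebra])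
  letI : Algebra (R0 ⊗[A] C) (K ⊗[A] C) :=
    (Algebra.TensorProduct.map (IsScalarTower.toAlgHom A R0 K) (AlgHom.id A C)).toRingHom.toAlgebra
  haveI : IsScalarTower R0 (R0 ⊗[A] C) (K ⊗[A] C) := .of_algebraMap_eq fun x => by
    simp [RingHom.algebraMap_toAlgebra]
  haveI := IsLocalization.tensorProduct_tensorProduct A C R0⁰ K
    (by ext; simp [RingHom.algebraMap_toAlgebra])
  let eB : B1 ≃ₐ[A] R0 ⊗[A] B := (Algebra.TensorProduct.comm A B R0)
  let eC : C1 ≃+* R0 ⊗[A] C :=
    (Algebra.TensorProduct.comm B B1 C).toRingEquiv.trans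
      ((Algebra.TensorProduct.cancelBaseChange A B C C R0).toRingEquiv.trans
        (Algebra.TensorProduct.comm A C R0).toRingEquiv)
  have hiso := hP.iso
  intro Q _
  refine (FormalFibre.forall_localization_iff (Algebra.algebraMapSubmonoid (R0 ⊗[A] C) R0⁰)
    hiso).2 (fun q _ hd => ?_) Q
  let q1 := q.comap eC.toRingHom
  haveI : q1.IsPrime := Ideal.IsPrime.comap _
  refine hiso (Localization.AtPrime q1) (Localization.AtPrime q)
    (Localization.localRingEquiv q1 q eC rfl) ?_
  refine atPrime hP B1 C1 q1 _ rfl ?_ fun Qb _ hQb => ?_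
  rotate_left
  · exact fibre_atPrime hP.iso B1 C1 (q1.comap (algebraMap B1 C1)) q1 rfl (fun Q _ => fibre_comp hP.iso B C B1 hBC _ Q) Qb hQb
  -- the localization of `B1` below is one of `K ⊗ B`
  let p1 := q1.comap (algebraMap B1 C1)
  let p2 := p1.comap eB.symm.toRingEquiv.toRingHom
  haveI : p2.IsPrime := Ideal.IsPrime.comap _
  refine hiso (Localization.AtPrime p2) (Localization.AtPrime p1)
    (Localization.localRingEquiv p2 p1 eB.symm.toRingEquiv rfl) ?_
  refine (FormalFibre.forall_localization_iff (Algebra.algebraMapSubmonoid (R0 ⊗[A] B) R0⁰)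
    hiso).1 h p2 ?_
  rw [Set.disjoint_left]
  rintro _ ⟨x, hx, rfl⟩ hxp
  refine Set.disjoint_left.1 hd ⟨x, hx, rfl⟩ ?_
  have key : eC (algebraMap B1 C1 (eB.symm (algebraMap R0 (R0 ⊗[A] B) x))) =
      algebraMap R0 (R0 ⊗[A] C) x := by
    simp [eB, eC, C1, B1, Algebra.TensorProduct.algebraMap_apply]
  rw [← key]
  exact hxp

theorem finPoint {P : ∀ (S : Type u) [CommRing S], Prop} (hP : CompProp P) (A B C : Type u) [CommRing A] [CommRing B] [CommRing C] [IsNoetherianRing B]
    [IsNoetherianRing C] [Algebra A B] [Algebra B C] [Algebra A C] [IsScalarTower A B C] [Module.Flat B C]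
    (hBC : ∀ (L : Type u) [Field L] [Algebra B L], FormalFibre.IsFinPoint B L →
      ∀ (Q : Ideal (L ⊗[B] C)) [Q.IsPrime], P (Localization.AtPrime Q))
    (K : Type u) [Field K] [Algebra A K] (hK : FormalFibre.IsFinPoint A K)
    (h : ∀ (Q : Ideal (K ⊗[A] B)) [Q.IsPrime], P (Localization.AtPrime Q)) :
    ∀ (Q : Ideal (K ⊗[A] C)) [Q.IsPrime], P (Localization.AtPrime Q) := by
  obtain ⟨B0, hB0, hfr⟩ := hK
  exact aux hP A B C hBC B0 K h

end Groth.Agent.Lib.EGA75.Comp
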