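import Groth.Agent.Lib.Cohen.CompleteGenReg
import Groth.Agent.Lib.Cohen.CompleteNagata
import Groth.Agent.Lib.Cohen.NagataFlatReduced
import Groth.Agent.Lib.Adic.Complete
import Mathlib.RingTheory.DedekindDomain.Basic
import Mathlib.RingTheory.Ideal.KrullsHeightTheorem
import Mathlib.RingTheory.RegularLocalRing.Defs

/-!
# EGA IV 7.5: fibres of flat local algebras over complete local rings from the closed fibre

A property of local rings which lifts along flat local maps to regular local rings and is stable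
under localization holds on all fibres as soon as it holds on the closed fibre.
-/

set_option autoImplicit false
set_option linter.style.haveILetI false

universe u

open IsLocalRing
open scoped TensorProduct nonZeroDivisors
open Groth.Agent.Lib.Excellent

namespace Groth.Agent.Lib.EGA75.Main

/-- A Noetherian domain with a nonzero element in all its nonzero primes has dimension at most one. -/
theorem isMaximal_of_mem_primes {D : Type u} [CommRing D] [IsDomain D] [IsNoetherianRing D] {h : D}
    (hh : h ≠ 0) (hmem : ∀ P : Ideal D, P.IsPrime → P ≠ ⊥ → h ∈ P) (P : Ideal D) [P.IsPrime]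
    (hP : P ≠ ⊥) : P.IsMaximal := by
  classical
  obtain ⟨M, hM, hPM⟩ := Ideal.exists_le_maximal P (Ideal.IsPrime.ne_top inferInstance)
  by_contra hmax
  have hlt : P < M := lt_of_le_of_ne hPM fun e => hmax (e ▸ hM)
  haveI := hM.isPrime
  have hfin : (Ideal.span {h}).minimalPrimes.Finite :=
    Ideal.finite_minimalPrimes_of_isNoetherianRing D _
  have h1 : ∀ p ∈ (Ideal.span {h}).minimalPrimes, p.height ≤ 1 := fun p hp =>
    Ideal.height_le_one_of_isPrincipal_of_mem_minimalPrimes _ p hp
  -- `M` is covered by the minimal primes over `h`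
  have hcov : (M : Set D) ⊆ ⋃ p ∈ (↑hfin.toFinset : Set (Ideal D)), (id p : Set D) := by
    intro y hy
    have key : ∀ z ∈ M, z ≠ 0 → ∃ p ∈ (Ideal.span {h}).minimalPrimes, z ∈ p := by
      intro z hz hz0
      obtain ⟨p, hp, -⟩ := Ideal.exists_minimalPrimes_le (I := Ideal.span {z}) (J := M)
        ((Ideal.span_singleton_le_iff_mem _).2 hz)
      haveI := hp.1.1
      have hzp : z ∈ p := hp.1.2 (Ideal.mem_span_singleton_self z)
      have hp0 : p ≠ ⊥ := fun e => hz0 (by simpa [e] using hzp)
      obtain ⟨p0, hp0m, hp0le⟩ := Ideal.exists_minimalPrimes_le (I := Ideal.span {h}) (J := p)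
        ((Ideal.span_singleton_le_iff_mem _).2 (hmem p inferInstance hp0))
      haveI := hp0m.1.1
      refine ⟨p0, hp0m, ?_⟩
      rcases hp0le.lt_or_eq with hl | he
      · have hne : p0 ≠ ⊥ := fun e => hh (by simpa [e] using hp0m.1.2 (Ideal.mem_span_singleton_self h))
        have a1 : 1 ≤ p0.height := Order.one_le_iff_ne_zero.2 fun e =>
          hne (Ideal.height_eq_zero_iff_eq_bot.1 e)
        have a2 := Ideal.height_add_one_le_of_lt_of_isPrime hl
        have a3 := Ideal.height_le_one_of_isPrincipal_of_mem_minimalPrimes _ p hp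
        have a4 : (1 : ℕ∞) + 1 ≤ 1 := le_trans (le_trans (by gcongr) a2) a3
        exact absurd a4 (by decide)
      · exact he ▸ hzp
    rcases eq_or_ne y 0 with rfl | hy0
    · obtain ⟨z, hz, hz0⟩ := Submodule.exists_mem_ne_zero_of_ne_bot
        (fun e : M = ⊥ => hP (le_bot_iff.1 (e ▸ hPM)))
      obtain ⟨p, hp, -⟩ := key z hz hz0
      exact Set.mem_biUnion (hfin.mem_toFinset.2 hp) p.zero_mem
    · obtain ⟨p, hp, hyp⟩ := key y hy hy0
      exact Set.mem_biUnion (hfin.mem_toFinset.2 hp) hyp
  obtain ⟨p, hp, hle⟩ := (Ideal.subset_union_prime (f := id) ⊥ ⊥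
    (fun i hi _ _ => (hfin.mem_toFinset.1 hi).1.1)).1 hcov
  have hp' := hfin.mem_toFinset.1 hp
  have b1 : 1 ≤ P.height := Order.one_le_iff_ne_zero.2 fun e =>
    hP (Ideal.height_eq_zero_iff_eq_bot.1 e)
  have b2 := Ideal.height_add_one_le_of_lt_of_isPrime hlt
  have b4 : (1 : ℕ∞) + 1 ≤ 1 :=
    le_trans (le_trans (by gcongr) b2) (le_trans (Ideal.height_mono hle) (h1 p hp'))
  exact absurd b4 (by decide)

/-- A finite module killed by a power of an ideal with finite quotient ring is finite over the base. -/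
theorem finite_of_pow_smul_eq_bot {R C : Type u} [CommRing R] [CommRing C] [Algebra R C]
    [IsNoetherianRing C] (m : Ideal C) [Module.Finite R (C ⧸ m)] :
    ∀ (n : ℕ) (N : Type u) [AddCommGroup N] [Module C N] [Module R N] [IsScalarTower R C N]
      [Module.Finite C N], m ^ n • (⊤ : Submodule C N) = ⊥ → Module.Finite R N := by
  intro n
  induction n with
  | zero =>
    intro N _ _ _ _ _ h
    rw [pow_zero, Ideal.one_eq_top, Submodule.top_smul] at h
    haveI : Subsingleton N := ⟨fun a b => by
      have ha : a ∈ (⊥ : Submodule C N) := h ▸ Submodule.mem_top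
      have hb : b ∈ (⊥ : Submodule C N) := h ▸ Submodule.mem_top
      rw [Submodule.mem_bot] at ha hb
      rw [ha, hb]⟩
    infer_instance
  | succ n ih =>
    intro N _ _ _ _ _ h
    let N1 : Submodule C N := m • ⊤
    haveI : Module.Finite C N1 := inferInstance
    have h1 : Module.Finite R N1 := by
      refine ih N1 (Submodule.map_injective_of_injective (f := N1.subtype) Subtype.val_injective ?_)
      rw [Submodule.map_smul'', Submodule.map_top, Submodule.range_subtype, Submodule.map_bot,
        ← h, pow_succ, Submodule.mul_smul]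
    letI : Module (C ⧸ m) (N ⧸ N1) := inferInstanceAs (Module (C ⧸ m) (N ⧸ (m • ⊤ : Submodule C N)))
    haveI : IsScalarTower C (C ⧸ m) (N ⧸ N1) :=
      inferInstanceAs (IsScalarTower C (C ⧸ m) (N ⧸ (m • ⊤ : Submodule C N)))
    haveI : Module.Finite (C ⧸ m) (N ⧸ N1) := Module.Finite.of_restrictScalars_finite C _ _
    haveI : IsScalarTower R (C ⧸ m) (N ⧸ N1) := .of_algebraMap_smul fun r x => by
      rw [IsScalarTower.algebraMap_apply R C (C ⧸ m), algebraMap_smul, algebraMap_smul]
    haveI : Module.Finite R (N ⧸ N1) := Module.Finite.trans (C ⧸ m) _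
    haveI : Module.Finite R (N1.restrictScalars R) := h1
    haveI : Module.Finite R (N ⧸ N1.restrictScalars R) :=
      Module.Finite.equiv (Submodule.Quotient.restrictScalarsEquiv R N1).symm
    exact Module.Finite.of_submodule_quotient (N1.restrictScalars R)

/-- A local domain of dimension at most one over a complete local ring, residually finite and with
maximal ideal of the base not mapping to zero, is finite. -/
theorem finite_of_dim_one (R C1 : Type u) [CommRing R] [IsLocalRing R] [IsNoetherianRing R]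
    [IsAdicComplete (maximalIdeal R) R] [CommRing C1] [IsDomain C1] [IsLocalRing C1]
    [IsNoetherianRing C1] [Algebra R C1] [Module.Finite R (C1 ⧸ maximalIdeal C1)]
    {x : R} (hx : x ∈ maximalIdeal R) (hx0 : algebraMap R C1 x ≠ 0)
    (hxm : (maximalIdeal R).map (algebraMap R C1) ≤ maximalIdeal C1)
    (hdim : ∀ p : Ideal C1, p.IsPrime → p ≠ ⊥ → p.IsMaximal) : Module.Finite R C1 := by
  let I := (maximalIdeal R).map (algebraMap R C1)
  have hrad : maximalIdeal C1 ≤ I.radical := by
    rw [Ideal.radical_eq_sInf]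
    refine le_sInf fun p ⟨hIp, hp⟩ => ?_
    have hp0 : p ≠ ⊥ := fun e => hx0 (by simpa [e] using hIp (Ideal.mem_map_of_mem _ hx))
    exact (IsLocalRing.eq_maximalIdeal (hdim p hp hp0)).ge
  obtain ⟨n, hn⟩ := Ideal.exists_pow_le_of_le_radical_of_fg hrad (IsNoetherian.noetherian _)
  have hfin : Module.Finite R (C1 ⧸ I) := by
    refine finite_of_pow_smul_eq_bot (maximalIdeal C1) n (C1 ⧸ I) ?_
    rw [eq_bot_iff]
    refine Submodule.smul_le.2 fun a ha y _ => ?_
    obtain ⟨y, rfl⟩ := Ideal.Quotient.mk_surjective y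
    rw [Submodule.mem_bot, ← Ideal.Quotient.mkₐ_eq_mk C1, ← map_smul, Ideal.Quotient.mkₐ_eq_mk,
      Ideal.Quotient.eq_zero_iff_mem]
    exact Ideal.mul_mem_right _ _ (hn ha)
  haveI : IsHausdorff (maximalIdeal R) C1 := by
    constructor
    intro z hz
    refine IsHausdorff.haus' (I := maximalIdeal C1) z fun n => ?_
    have hz' := hz n
    rw [SModEq.sub_mem, sub_zero] at hz' ⊢
    rw [Ideal.smul_top_eq_map, Submodule.restrictScalars_mem, Ideal.map_pow] at hz'
    have := Ideal.pow_right_mono hxm n hz'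
    simpa using this
  refine Groth.Agent.Lib.Adic.Complete.finite_of_finite_quotient (I := maximalIdeal R) ?_
  haveI : Module.Finite R (C1 ⧸ I.restrictScalars R) :=
    Module.Finite.equiv (Submodule.Quotient.restrictScalarsEquiv R I).symm
  exact Module.Finite.equiv
    (Submodule.quotEquivOfEq _ _ (Ideal.smul_top_eq_map (maximalIdeal R) (S := C1)).symm)

/-- Properties of local rings which lift to regular local rings along flat local maps. -/
structure LiftProp (P : ∀ (S : Type u) [CommRing S], Prop) : Prop where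
  iso : FormalFibre.IsoInvariant.{u} P
  lift : ∀ (R : Type u) [CommRing R] [IsRegularLocalRing R] (S : Type u) [CommRing S] [IsLocalRing S]
    [IsNoetherianRing S] [Algebra R S] [Module.Flat R S] [IsLocalHom (algebraMap R S)],
    P (S ⧸ (maximalIdeal R).map (algebraMap R S)) → P S
  loc : ∀ (S : Type u) [CommRing S] [IsLocalRing S] [IsNoetherianRing S], P S →
    ∀ (Q : Ideal S) [Q.IsPrime], P (Localization.AtPrime Q)

/-- The inductive step at a prime of a finite flat base change. -/
theorem step {P : ∀ (S : Type u) [CommRing S], Prop} (hP : LiftProp P)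
    (A1 T : Type u) [CommRing A1] [IsNoetherianRing A1] [CommRing T]
    [IsNoetherianRing T] [Algebra A1 T] [Module.Flat A1 T]
    (Q' Q : Ideal T) [Q'.IsPrime] [Q.IsPrime] (hle : Q' ≤ Q) (p : Ideal A1) [p.IsPrime]
    (hQp : Q.comap (algebraMap A1 T) = p) (hreg : IsRegularLocalRing (Localization.AtPrime p))
    (hfib : ∀ (Qb : Ideal (T ⧸ p.map (algebraMap A1 T))) [Qb.IsPrime],
      Qb.comap (Ideal.Quotient.mk _) = Q → P (Localization.AtPrime Qb)) :
    P (Localization.AtPrime Q') := by
  haveI := hreg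
  let R' := Localization.AtPrime p
  let S := Localization.AtPrime Q
  haveI : IsNoetherianRing S := IsLocalization.isNoetherianRing Q.primeCompl S inferInstance
  let φ : R' →+* S := Localization.localRingHom p Q (algebraMap A1 T) hQp.symm
  letI : Algebra R' S := φ.toAlgebra
  haveI : IsScalarTower A1 R' S := .of_algebraMap_eq fun a => by
    rw [RingHom.algebraMap_toAlgebra, Localization.localRingHom_to_map,
      IsScalarTower.algebraMap_apply A1 T S]
  haveI : IsLocalHom (algebraMap R' S) := Localization.isLocalHom_localRingHom p Q _ hQp.symm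
  haveI : Module.Flat A1 S := Module.Flat.trans A1 T S
  haveI : Module.Flat R' S := (Module.flat_iff_of_isLocalization R' p.primeCompl S).2 inferInstance
  have hS : P S := by
    refine hP.lift R' S ?_
    let J := p.map (algebraMap A1 T)
    have hJQ : J ≤ Q := Ideal.map_le_iff_le_comap.2 hQp.ge
    let Qb := Q.map (Ideal.Quotient.mk J)
    haveI : Qb.IsPrime := Ideal.map_isPrime_of_surjective Ideal.Quotient.mk_surjective
      (by rwa [Ideal.mk_ker])
    have hQb : Qb.comap (Ideal.Quotient.mk J) = Q := by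
      rw [Ideal.comap_map_of_surjective _ Ideal.Quotient.mk_surjective, ← RingHom.ker_eq_comap_bot,
        Ideal.mk_ker, sup_eq_left.2 hJQ]
    have hM : Algebra.algebraMapSubmonoid (T ⧸ J) Q.primeCompl = Qb.primeCompl := by
      ext y
      constructor
      · rintro ⟨t, ht, rfl⟩ hty
        exact ht (hQb ▸ hty)
      · intro hy
        obtain ⟨t, rfl⟩ := Ideal.Quotient.mk_surjective y
        exact ⟨t, fun ht => hy (Ideal.mem_map_of_mem _ ht), rfl⟩
    haveI : IsLocalization Qb.primeCompl (S ⧸ J.map (algebraMap T S)) := hM ▸ inferInstance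
    have hJ : J.map (algebraMap T S) = (maximalIdeal R').map (algebraMap R' S) := by
      rw [← Localization.AtPrime.map_eq_maximalIdeal (I := p), Ideal.map_map, Ideal.map_map,
        ← IsScalarTower.algebraMap_eq, ← IsScalarTower.algebraMap_eq]
    exact hP.iso _ _ ((IsLocalization.algEquiv Qb.primeCompl (Localization.AtPrime Qb)
      (S ⧸ J.map (algebraMap T S))).toRingEquiv.trans (Ideal.quotEquivOfEq hJ)) (hfib Qb hQb)
  have hd : Disjoint (Q.primeCompl : Set T) Q' := Set.disjoint_left.2 fun t ht ht' => ht (hle ht')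
  exact (FormalFibre.forall_localization_iff Q.primeCompl hP.iso).1 (hP.loc S hS) Q' hd

/-- The step of the induction at a normal finite domain over the base. -/
theorem fibres_aux {P : ∀ (S : Type u) [CommRing S], Prop} (hP : LiftProp P)
    (R : Type u) [CommRing R] [IsLocalRing R] [IsNoetherianRing R]
    [IsAdicComplete (maximalIdeal R) R] (C : Type u) [CommRing C] [IsLocalRing C]
    [IsNoetherianRing C] [Algebra R C] [Module.Flat R C] [IsLocalHom (algebraMap R C)]
    [Module.Finite R (C ⧸ maximalIdeal C)] (q : Ideal R) [q.IsPrime]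
    (ih : ∀ y : Ideal R, q < y → ∀ (B : Type u) [CommRing B] [IsDomain B] [Algebra R B]
      [Module.Finite R B], RingHom.ker (algebraMap R B) = y → ∀ (Q : Ideal (B ⊗[R] C)) [Q.IsPrime],
        Q.comap (algebraMap B (B ⊗[R] C)) = ⊥ → P (Localization.AtPrime Q))
    {x : R} (hxm : x ∈ maximalIdeal R) (hxq : x ∉ q)
    (A1 : Type u) [CommRing A1] [IsDomain A1] [IsNoetherianRing A1] [IsIntegrallyClosed A1]
    [Algebra R A1] [Module.Finite R A1] (hkerA1 : RingHom.ker (algebraMap R A1) = q)
    (Q' : Ideal (A1 ⊗[R] C)) [Q'.IsPrime]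
    (hQ' : Q'.comap (algebraMap A1 (A1 ⊗[R] C)) = ⊥) : P (Localization.AtPrime Q') := by
  classical
  letI : Algebra (R ⧸ q) A1 := (Ideal.Quotient.lift q (algebraMap R A1)
    fun a ha => RingHom.mem_ker.1 (hkerA1 ▸ ha)).toAlgebra
  haveI : IsScalarTower R (R ⧸ q) A1 := IsScalarTower.of_algebraMap_eq fun _ => rfl
  haveI : Module.Finite (R ⧸ q) A1 := Module.Finite.of_restrictScalars_finite R _ _
  haveI : FaithfulSMul (R ⧸ q) A1 := (faithfulSMul_iff_algebraMap_injective _ _).2 <| by
    rw [injective_iff_map_eq_zero]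
    intro a ha
    obtain ⟨a, rfl⟩ := Ideal.Quotient.mk_surjective a
    rw [Ideal.Quotient.eq_zero_iff_mem, ← hkerA1, RingHom.mem_ker]
    exact ha
  let T := A1 ⊗[R] C
  -- `T` is finite over `C`
  let u : C →ₐ[R] T := Algebra.TensorProduct.includeRight
  letI : Algebra C T := u.toRingHom.toAlgebra
  haveI : IsScalarTower R C T := IsScalarTower.of_algebraMap_eq fun r => (u.commutes r).symm
  haveI : Module.Finite C T := by
    let ψ : C ⊗[R] A1 →ₐ[C] T := Algebra.TensorProduct.lift (Algebra.ofId C T)
      (Algebra.TensorProduct.includeLeft : A1 →ₐ[R] T) fun _ _ => Commute.all _ _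
    refine Module.Finite.of_surjective ψ.toLinearMap fun z => ?_
    induction z using TensorProduct.induction_on with
    | zero => exact ⟨0, map_zero _⟩
    | add x y hx hy =>
      obtain ⟨a, rfl⟩ := hx
      obtain ⟨b, rfl⟩ := hy
      exact ⟨a + b, map_add _ _ _⟩
    | tmul b c =>
      refine ⟨c ⊗ₜ[R] b, ?_⟩
      change u c * (b ⊗ₜ[R] (1 : C)) = _
      change ((1 : A1) ⊗ₜ[R] c) * (b ⊗ₜ[R] (1 : C)) = _
      rw [Algebra.TensorProduct.tmul_mul_tmul, one_mul, mul_one]
  haveI : IsNoetherianRing T := IsNoetherianRing.of_finite C T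
  obtain ⟨h, hh0, hreg⟩ := Groth.Agent.Lib.Cohen.CompleteGenReg.genReg_of_finite_complete R A1
  set ξ := algebraMap R A1 x with hξdef
  have hξ : ξ ≠ 0 := fun e => hxq (hkerA1 ▸ RingHom.mem_ker.2 e)
  let hT := algebraMap A1 T (h * ξ)
  have hhT : hT ∉ Q' := fun e => mul_ne_zero hh0 hξ (by
    have : h * ξ ∈ Q'.comap (algebraMap A1 T) := e
    rwa [hQ', Submodule.mem_bot] at this)
  obtain ⟨q1, ⟨hq1p, hQ'q1, hhq1⟩, hmax⟩ :=
    (wellFounded_gt (α := Ideal T)).has_min {I : Ideal T | I.IsPrime ∧ Q' ≤ I ∧ hT ∉ I}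
      ⟨Q', ‹_›, le_rfl, hhT⟩
  haveI := hq1p
  let D := T ⧸ q1
  haveI : IsDomain D := Ideal.Quotient.isDomain q1
  have hD : ∀ p : Ideal D, p.IsPrime → p ≠ ⊥ → p.IsMaximal := fun p hp hp0 => by
    refine isMaximal_of_mem_primes (h := Ideal.Quotient.mk q1 hT)
      (fun e => hhq1 (Ideal.Quotient.eq_zero_iff_mem.1 e)) (fun J hJ hJ0 => ?_) p hp0
    by_contra hnot
    refine hmax (J.comap (Ideal.Quotient.mk q1)) ⟨inferInstance,
      hQ'q1.trans ((Ideal.mk_ker (I := q1)).ge.trans (Ideal.comap_mono bot_le)), hnot⟩ ?_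
    refine lt_of_le_of_ne ((Ideal.mk_ker (I := q1)).ge.trans (Ideal.comap_mono bot_le)) fun e => hJ0 ?_
    rw [← Ideal.map_comap_of_surjective _ Ideal.Quotient.mk_surjective J, ← e,
      Ideal.map_quotient_self]
  have hξq1 : algebraMap A1 T ξ ∉ q1 := fun e => hhq1 (by
    simp only [hT, map_mul]; exact Ideal.mul_mem_left _ _ e)
  have hhq1' : algebraMap A1 T h ∉ q1 := fun e => hhq1 (by
    simp only [hT, map_mul]; exact Ideal.mul_mem_right _ _ e)
  -- `D` is finite over `R`
  let p1 := q1.comap (algebraMap C T)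
  let C1 := C ⧸ p1
  haveI : IsDomain C1 := Ideal.Quotient.isDomain p1
  haveI : IsLocalRing C1 := IsLocalRing.of_surjective' _ Ideal.Quotient.mk_surjective
  haveI : IsLocalHom (Ideal.Quotient.mk p1) := IsLocalHom.of_surjective _ Ideal.Quotient.mk_surjective
  haveI : Module.Finite C1 D := Module.Finite.of_restrictScalars_finite C _ _
  haveI : Module.Finite R (C1 ⧸ maximalIdeal C1) := by
    let g : (C ⧸ maximalIdeal C) →ₐ[R] C1 ⧸ maximalIdeal C1 := Ideal.Quotient.liftₐ _
      ((Ideal.Quotient.mkₐ R (maximalIdeal C1)).comp (Ideal.Quotient.mkₐ R p1)) fun a ha => by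
        refine Ideal.Quotient.eq_zero_iff_mem.2 ?_
        exact map_nonunit (Ideal.Quotient.mk p1) a ha
    refine Module.Finite.of_surjective g.toLinearMap fun z => ?_
    obtain ⟨z, rfl⟩ := Ideal.Quotient.mk_surjective z
    obtain ⟨z, rfl⟩ := Ideal.Quotient.mk_surjective z
    exact ⟨Ideal.Quotient.mk _ z, rfl⟩
  haveI : Module.Finite R C1 := by
    refine finite_of_dim_one R C1 hxm ?_ ?_ fun p hp hp0 => ?_
    · intro e
      rw [IsScalarTower.algebraMap_apply R C C1, Ideal.Quotient.algebraMap_eq,
        Ideal.Quotient.eq_zero_iff_mem, Ideal.mem_comap, ← IsScalarTower.algebraMap_apply,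
        IsScalarTower.algebraMap_apply R A1 T] at e
      exact hξq1 e
    · rw [IsScalarTower.algebraMap_eq R C C1, ← Ideal.map_map]
      refine Ideal.map_le_iff_le_comap.2 ?_
      rw [Ideal.Quotient.algebraMap_eq, IsLocalRing.maximalIdeal_comap]
      exact Ideal.map_le_iff_le_comap.2 (IsLocalRing.maximalIdeal_comap (algebraMap R C)).ge
    · haveI := hp
      obtain ⟨J, -, hJ, hJp⟩ := Ideal.exists_ideal_over_prime_of_isIntegral (S := D) p ⊥ (by
        rw [← RingHom.ker_eq_comap_bot]
        rw [(RingHom.injective_iff_ker_eq_bot _).1 Ideal.algebraMap_quotient_injective]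
        exact bot_le)
      haveI := hJ
      have hJ0 : J ≠ ⊥ := fun e => hp0 (by
        rw [← hJp, e, ← RingHom.ker_eq_comap_bot]
        exact (RingHom.injective_iff_ker_eq_bot _).1 Ideal.algebraMap_quotient_injective)
      haveI := hD J hJ hJ0
      rw [← hJp]
      exact Ideal.isMaximal_comap_of_isIntegral_of_isMaximal J
  haveI : Module.Finite R D := Module.Finite.trans C1 D
  haveI : Module.Finite A1 D := Module.Finite.of_restrictScalars_finite R _ _
  -- the induction hypothesis on a fibre
  have hfib : ∀ (p : Ideal A1) [p.IsPrime], p ≠ ⊥ → ∀ (Q : Ideal T) [Q.IsPrime],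
      Q.comap (algebraMap A1 T) = p → ∀ (Qb : Ideal (T ⧸ p.map (algebraMap A1 T))) [Qb.IsPrime],
      Qb.comap (Ideal.Quotient.mk _) = Q → P (Localization.AtPrime Qb) := by
    intro p _ hp0 Q _ hQp Qb _ hQb
    haveI : IsDomain (A1 ⧸ p) := Ideal.Quotient.isDomain p
    have hlt : q < RingHom.ker (algebraMap R (A1 ⧸ p)) := by
      refine lt_of_le_of_ne (fun a ha => ?_) fun e => ?_
      · rw [RingHom.mem_ker, IsScalarTower.algebraMap_apply R A1 (A1 ⧸ p),
          show algebraMap R A1 a = 0 from RingHom.mem_ker.1 (hkerA1.symm ▸ ha), map_zero]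
      · refine Ideal.comap_ne_bot_of_integral_mem (R := R ⧸ q) (I := p)
          (Classical.choose_spec (Submodule.exists_mem_ne_zero_of_ne_bot hp0)).2
          (Classical.choose_spec (Submodule.exists_mem_ne_zero_of_ne_bot hp0)).1
          (Algebra.IsIntegral.isIntegral _) ?_
        rw [eq_bot_iff]
        intro a ha
        obtain ⟨a, rfl⟩ := Ideal.Quotient.mk_surjective a
        rw [Submodule.mem_bot, Ideal.Quotient.eq_zero_iff_mem, e, RingHom.mem_ker,
          IsScalarTower.algebraMap_apply R A1 (A1 ⧸ p), Ideal.Quotient.algebraMap_eq,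
          Ideal.Quotient.eq_zero_iff_mem]
        exact ha
    let e : (T ⧸ p.map (algebraMap A1 T)) ≃+* (A1 ⧸ p) ⊗[R] C :=
      (Algebra.TensorProduct.quotIdealMapEquivTensorQuot T p).toRingEquiv.trans
        ((Algebra.TensorProduct.comm A1 T (A1 ⧸ p)).toRingEquiv.trans
          (Algebra.TensorProduct.cancelBaseChange R A1 (A1 ⧸ p) (A1 ⧸ p) C).toRingEquiv)
    have hcomm : ∀ a : A1, e (Ideal.Quotient.mk _ (algebraMap A1 T a)) =
        algebraMap (A1 ⧸ p) _ (Ideal.Quotient.mk p a) := fun a => by
      simp [e, T, Algebra.TensorProduct.algebraMap_apply, Algebra.smul_def]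
    let Qc := Qb.comap e.symm.toRingHom
    haveI : Qc.IsPrime := Ideal.IsPrime.comap _
    refine hP.iso _ _ (Localization.localRingEquiv Qc Qb e.symm rfl) (ih _ hlt (A1 ⧸ p) rfl Qc ?_)
    rw [eq_bot_iff]
    intro z hz
    obtain ⟨z, rfl⟩ := Ideal.Quotient.mk_surjective z
    rw [Submodule.mem_bot, Ideal.Quotient.eq_zero_iff_mem, ← hQp, ← hQb]
    have hz' : e.symm (algebraMap (A1 ⧸ p) _ (Ideal.Quotient.mk p z)) ∈ Qb := hz
    rw [← hcomm, e.symm_apply_apply] at hz'
    exact hz'
  by_cases hP0 : q1.comap (algebraMap A1 T) = ⊥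
  · -- the base has dimension one
    haveI : IsDedekindDomain A1 := by
      haveI : Ring.DimensionLEOne A1 := ⟨fun {p} hp0 hp => by
        haveI := hp
        have hinj : Function.Injective (algebraMap A1 D) := by
          rw [injective_iff_map_eq_zero]
          intro a ha
          rw [IsScalarTower.algebraMap_apply A1 T D, Ideal.Quotient.algebraMap_eq,
            Ideal.Quotient.eq_zero_iff_mem] at ha
          have : a ∈ q1.comap (algebraMap A1 T) := ha
          rwa [hP0, Submodule.mem_bot] at this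
        obtain ⟨J, -, hJ, hJp⟩ := Ideal.exists_ideal_over_prime_of_isIntegral (S := D) p ⊥ (by
          rw [← RingHom.ker_eq_comap_bot, (RingHom.injective_iff_ker_eq_bot _).1 hinj]
          exact bot_le)
        haveI := hJ
        have hJ0 : J ≠ ⊥ := fun e => hp0 (by
          rw [← hJp, e, ← RingHom.ker_eq_comap_bot, (RingHom.injective_iff_ker_eq_bot _).1 hinj])
        haveI := hD J hJ hJ0
        rw [← hJp]
        exact Ideal.isMaximal_comap_of_isIntegral_of_isMaximal J⟩
      haveI : IsDedekindRing A1 := (isDedekindRing_iff A1 (FractionRing A1)).2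
        ⟨inferInstance, inferInstance, fun hz => IsIntegrallyClosed.isIntegral_iff.1 hz⟩
      exact ⟨⟩
    obtain ⟨Qd, hQd⟩ := Ideal.exists_maximal D
    haveI := hQd
    let Q := Qd.comap (Ideal.Quotient.mk q1)
    haveI : Q.IsPrime := Ideal.IsPrime.comap _
    let p := Q.comap (algebraMap A1 T)
    have hp : p.IsMaximal := by
      have : p = Qd.comap (algebraMap A1 D) := by
        rw [IsScalarTower.algebraMap_eq A1 T D, ← Ideal.comap_comap]
        rfl
      rw [this]
      exact Ideal.isMaximal_comap_of_isIntegral_of_isMaximal Qd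
    have hp0 : p ≠ ⊥ := fun e => by
      have hF : IsField A1 := by
        rw [Ring.isField_iff_maximal_bot]
        exact e ▸ hp
      have hu : IsUnit ξ := (letI := hF.toField; isUnit_iff_ne_zero.2 hξ)
      rw [hξdef, IsScalarTower.algebraMap_apply R (R ⧸ q) A1] at hu
      haveI : IsLocalRing (R ⧸ q) := IsLocalRing.of_surjective' _ Ideal.Quotient.mk_surjective
      haveI : IsLocalHom (Ideal.Quotient.mk q) :=
        IsLocalHom.of_surjective _ Ideal.Quotient.mk_surjective
      have hu' : IsUnit (algebraMap R (R ⧸ q) x) :=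
        IsLocalHom.map_nonunit (f := algebraMap (R ⧸ q) A1) _ hu
      exact hxm ((isUnit_map_iff (Ideal.Quotient.mk q) x).1 hu')
    exact step hP A1 T Q' Q (hQ'q1.trans ((Ideal.mk_ker (I := q1)).ge.trans (Ideal.comap_mono bot_le)))
      p rfl (IsRegularRing.isRegularLocalRing_localization p) (hfib p hp0 Q rfl)
  · exact step hP A1 T Q' q1 hQ'q1 _ rfl
      (hreg ⟨q1.comap (algebraMap A1 T), inferInstance⟩ hhq1') (hfib _ hP0 q1 rfl)


/-- Local rings of the generic fibre of a finite domain and those of its fraction field. -/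
theorem fraction_iff {P : ∀ (S : Type u) [CommRing S], Prop} (hP : FormalFibre.IsoInvariant.{u} P)
    (A C B K : Type u) [CommRing A] [CommRing C] [Algebra A C] [CommRing B] [IsDomain B] [Algebra A B]
    [Field K] [Algebra A K] [Algebra B K] [IsScalarTower A B K] [IsFractionRing B K] :
    (∀ (Q : Ideal (K ⊗[A] C)) [Q.IsPrime], P (Localization.AtPrime Q)) ↔
      ∀ (q : Ideal (B ⊗[A] C)) [q.IsPrime], q.comap (algebraMap B (B ⊗[A] C)) = ⊥ →
        P (Localization.AtPrime q) := by
  letI : Algebra (B ⊗[A] C) (K ⊗[A] C) :=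
    (Algebra.TensorProduct.map (IsScalarTower.toAlgHom A B K) (AlgHom.id A C)).toRingHom.toAlgebra
  haveI : IsScalarTower B (B ⊗[A] C) (K ⊗[A] C) := .of_algebraMap_eq fun x => by
    simp [RingHom.algebraMap_toAlgebra]
  haveI := IsLocalization.tensorProduct_tensorProduct A C B⁰ K
    (by ext; simp [RingHom.algebraMap_toAlgebra])
  rw [FormalFibre.forall_localization_iff (Algebra.algebraMapSubmonoid (B ⊗[A] C) B⁰) hP]
  refine forall_congr' fun q => forall_congr' fun hq => imp_congr_left ?_
  rw [Set.disjoint_left]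
  constructor
  · intro hd
    rw [eq_bot_iff]
    intro x hx
    by_contra h0
    exact hd ⟨x, mem_nonZeroDivisors_of_ne_zero h0, rfl⟩ hx
  · rintro h _ ⟨x, hx, rfl⟩ hxq
    have : x ∈ q.comap (algebraMap B (B ⊗[A] C)) := hxq
    rw [h] at this
    exact nonZeroDivisors.ne_zero hx this

/-- EGA IV 7.5.1: a lifting property holds on the fibres if it holds on the closed fibre. -/
theorem fibres {P : ∀ (S : Type u) [CommRing S], Prop} (hP : LiftProp P)
    (R : Type u) [CommRing R] [IsLocalRing R] [IsNoetherianRing R]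
    [IsAdicComplete (maximalIdeal R) R] (C : Type u) [CommRing C] [IsLocalRing C]
    [IsNoetherianRing C] [Algebra R C] [Module.Flat R C] [IsLocalHom (algebraMap R C)]
    [Module.Finite R (C ⧸ maximalIdeal C)]
    (h0 : ∀ (L : Type u) [Field L] [Algebra R L] [Module.Finite R L]
      (Q : Ideal (L ⊗[R] C)) [Q.IsPrime], P (Localization.AtPrime Q))
    (K : Type u) [Field K] [Algebra R K] (hK : FormalFibre.IsFinPoint R K)
    (Q : Ideal (K ⊗[R] C)) [Q.IsPrime] : P (Localization.AtPrime Q) := by
  classical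
  refine (FormalFibre.forall_domain_iff hP.iso C).1 ?_ K hK Q
  clear * - hP h0
  suffices key : ∀ (q : Ideal R) (B : Type u) [CommRing B] [IsDomain B] [Algebra R B]
      [Module.Finite R B], RingHom.ker (algebraMap R B) = q → ∀ (Q : Ideal (B ⊗[R] C)) [Q.IsPrime],
        Q.comap (algebraMap B (B ⊗[R] C)) = ⊥ → P (Localization.AtPrime Q) from
    fun B _ _ _ _ Q _ hQ => key _ B rfl Q hQ
  intro q
  induction q using WellFoundedGT.induction with
  | ind q ih =>
  intro B _ _ _ _ hker
  haveI hqp : q.IsPrime := hker ▸ RingHom.ker_isPrime _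
  haveI : IsDomain (R ⧸ q) := Ideal.Quotient.isDomain q
  letI : Algebra (R ⧸ q) B := (Ideal.Quotient.lift q (algebraMap R B)
    fun a ha => RingHom.mem_ker.1 (hker ▸ ha)).toAlgebra
  haveI : IsScalarTower R (R ⧸ q) B := IsScalarTower.of_algebraMap_eq fun _ => rfl
  haveI : Module.Finite (R ⧸ q) B := Module.Finite.of_restrictScalars_finite R _ _
  by_cases hqm : maximalIdeal R ≤ q
  · -- the residue field case
    have hBf : IsField B := by
      haveI : q.IsMaximal := by
        have e : maximalIdeal R = q := le_antisymm hqm (IsLocalRing.le_maximalIdeal hqp.ne_top)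
        exact e ▸ maximalIdeal.isMaximal R
      letI : Field (R ⧸ q) := Ideal.Quotient.field q
      haveI : Algebra.IsIntegral (R ⧸ q) B := Algebra.IsIntegral.tower_top R
      exact isField_of_isIntegral_of_isField' (R := R ⧸ q) (Field.toIsField _)
    letI := hBf.toField
    exact fun Q _ _ => h0 B Q
  obtain ⟨x, hxm, hxq⟩ := SetLike.not_le_iff_exists.1 hqm
  haveI : FaithfulSMul (R ⧸ q) B := (faithfulSMul_iff_algebraMap_injective _ _).2 <| by
    rw [injective_iff_map_eq_zero]
    intro a ha
    obtain ⟨a, rfl⟩ := Ideal.Quotient.mk_surjective a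
    rw [Ideal.Quotient.eq_zero_iff_mem, ← hker, RingHom.mem_ker]
    exact ha
  -- pass to the normalization
  let L := FractionRing B
  haveI : FaithfulSMul (R ⧸ q) L := (faithfulSMul_iff_algebraMap_injective _ _).2 <| by
    rw [IsScalarTower.algebraMap_eq (R ⧸ q) B L]
    exact (IsFractionRing.injective B L).comp (FaithfulSMul.algebraMap_injective _ _)
  letI : Algebra (FractionRing (R ⧸ q)) L := FractionRing.liftAlgebra (R ⧸ q) L
  haveI : Module.Finite (FractionRing (R ⧸ q)) L :=
    Module.Finite.of_isLocalization (R ⧸ q) B (nonZeroDivisors (R ⧸ q))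
  let A1 := integralClosure (R ⧸ q) L
  haveI : Module.Finite (R ⧸ q) A1 := by
    haveI : IsLocalRing (R ⧸ q) := IsLocalRing.of_surjective' _ Ideal.Quotient.mk_surjective
    haveI : IsAdicComplete (maximalIdeal (R ⧸ q)) (R ⧸ q) := by
      rw [Groth.Agent.Lib.Regular.Quotient.maximalIdeal_quotient]
      exact Groth.Agent.Lib.Adic.Complete.isAdicComplete_quotient q
    exact Groth.Agent.Lib.Cohen.CompleteNagata.isN2 (R ⧸ q) L inferInstance
  haveI : Module.Finite R A1 := Module.Finite.trans (R ⧸ q) A1
  haveI : IsNoetherianRing A1 := IsNoetherianRing.of_finite (R ⧸ q) A1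
  haveI : IsIntegrallyClosed A1 :=
    integralClosure.isIntegrallyClosedOfFiniteExtension (FractionRing (R ⧸ q))
  haveI : IsFractionRing A1 L :=
    integralClosure.isFractionRing_of_finite_extension (FractionRing (R ⧸ q)) L
  have hkerA1 : RingHom.ker (algebraMap R A1) = q := by
    ext a
    rw [RingHom.mem_ker, IsScalarTower.algebraMap_apply R (R ⧸ q) A1,
      map_eq_zero_iff _ (fun a b h => FaithfulSMul.algebraMap_injective (R ⧸ q) L
        (congrArg Subtype.val h))]
    exact Ideal.Quotient.eq_zero_iff_mem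
  exact (fraction_iff hP.iso R C B L).1 ((fraction_iff hP.iso R C A1 L).2
    (fibres_aux hP R C q ih hxm hxq A1 hkerA1))

end Groth.Agent.Lib.EGA75.Main
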