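import Groth.Agent.Lib.EGA75.Loci
import Groth.Agent.Lib.Excellent.CompletionNoetherian
import Mathlib.RingTheory.AdicCompletion.LocalRing
import Mathlib.RingTheory.AdicCompletion.AsTensorProduct

/-!
# The image of the spectrum of an adic completion
-/

set_option autoImplicit false
set_option linter.style.haveILetI false

universe u

namespace Groth.Agent.Lib.EGA75.Zariski

/-- Primes of the completion contract to primes avoiding `1 + J`. -/
theorem disjoint_comap (A : Type u) [CommRing A] [IsNoetherianRing A] (J : Ideal A)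
    (Q : Ideal (AdicCompletion J A)) [Q.IsPrime] :
    Disjoint (MonoidHom.mker (Ideal.Quotient.mk J) : Set A)
      (Q.comap (algebraMap A (AdicCompletion J A)) : Set A) := by
  obtain ⟨n, hn, hQn⟩ := Ideal.exists_le_maximal Q (Ideal.IsPrime.ne_top inferInstance)
  haveI := hn
  haveI := AdicCompletion.isAdicComplete_self J (IsNoetherian.noetherian J)
  have hJn : J.map (algebraMap A (AdicCompletion J A)) ≤ n :=
    (IsAdicComplete.le_jacobson_bot (J.map (algebraMap A (AdicCompletion J A)))).trans
      (sInf_le ⟨bot_le, hn⟩)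
  rw [Set.disjoint_left]
  intro a ha haQ
  have h1 : a - 1 ∈ J := by
    rw [← Ideal.Quotient.eq]
    exact ha.trans (map_one _).symm
  refine hn.ne_top ((Ideal.eq_top_iff_one _).2 ?_)
  have h2 := n.sub_mem (hQn haQ) (hJn (Ideal.mem_map_of_mem _ h1))
  simpa using h2

/-- Every prime avoiding `1 + J` comes from the completion. -/
theorem exists_comap (A : Type u) [CommRing A] [IsNoetherianRing A] (J : Ideal A) (p : Ideal A)
    [p.IsPrime] (hp : Disjoint (MonoidHom.mker (Ideal.Quotient.mk J) : Set A) (p : Set A)) :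
    ∃ (Q : Ideal (AdicCompletion J A)), Q.IsPrime ∧ Q.comap (algebraMap A (AdicCompletion J A)) = p := by
  have hne : p ⊔ J ≠ ⊤ := fun h => by
    obtain ⟨a, ha, b, hb, hab⟩ := Submodule.mem_sup.1 ((Ideal.eq_top_iff_one _).1 h)
    refine Set.disjoint_left.1 hp (?_ : Ideal.Quotient.mk J a = 1) ha
    rw [← map_one (Ideal.Quotient.mk J), Ideal.Quotient.eq]
    have : a - 1 = -b := by rw [← hab]; ring
    rw [this]
    exact J.neg_mem hb
  obtain ⟨m, hm, hle⟩ := Ideal.exists_le_maximal _ hne
  haveI := hm
  haveI := AdicCompletion.isMaximal_map_of_le J m (le_sup_right.trans hle) (IsNoetherian.noetherian J)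
  haveI : (m.map (algebraMap A (AdicCompletion J A))).LiesOver m :=
    ⟨hm.eq_of_le (Ideal.IsPrime.ne_top inferInstance) Ideal.le_comap_map⟩
  obtain ⟨P, -, hP, hPp⟩ := Ideal.exists_ideal_le_liesOver_of_le
    (m.map (algebraMap A (AdicCompletion J A))) (q := m) (le_sup_left.trans hle)
  exact ⟨P, hP, hPp.over.symm⟩

end Groth.Agent.Lib.EGA75.Zariski
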